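import Cfsg.Agent.Lib.ClassSquareGauss.Chev.Cover

/-!
From checked exponents to the class.
-/

set_option autoImplicit false
set_option linter.unusedSectionVars false

namespace Cfsg.Agent.ClassSquareGauss.Chev

open Cfsg.Lie Cfsg.Agent.Chevalley Cfsg.Agent.Chevalley.Cert Cfsg.Agent.Chevalley.Group
  Cfsg.Agent.Chevalley.Table Cfsg.Agent.Chevalley.Unip Cfsg.Agent.Chevalley.Borel
  Cfsg.Agent.Chevalley.Graded

variable {D : ChevalleyDatum} {F : Type*} [Field F] {T : Tab}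

/-- A table of vectors. -/
def vec (L : List ℤ) : ℕ → ℤ := fun i => L.getD i 0

/-- The checks of the exponents of one case, modulo `M`. -/
def CaseOK (D : ChevalleyDatum) (P : LevData) (L0 : List ℕ) (a : ℕ → ℤ) (M : ℕ) : Prop :=
  (∀ r < D.nroots, 0 < lin D P.dg r → lin D a r % (M : ℤ) ≠ 0) ∧
    (∀ k : Fin P.m, lin D a (D.simple (P.nd k)) % (M : ℤ) = 0) ∧
    ∀ r < D.nroots, (lin D a (wL D L0.reverse r) + lin D a r) % (M : ℤ) = 0

theorem torChar_rho (ρ : Fˣ) (a : ℕ → ℤ) (r : ℕ) :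
    torChar D (fun i => ρ ^ a i) r = ρ ^ lin D a r := by
  rw [torChar, lin, ← TorusCard.prod_zpow_sum]
  exact Finset.prod_congr rfl fun i _ => by rw [← zpow_mul]

variable (hC : Certified D T) {nv : ℕ → ℕ → ℤ} (hn : NodeOK D T nv) {par : ℕ → ℕ} (hT : TreeOK D par)
include hC hn hT

theorem class_of_case [Fintype F] (hF : 9 ≤ Fintype.card F) (hrk : 1 ≤ D.rank) {P : LevData}
    (hP : LevOK D T P) {L0 : List ℕ} (hL0 : ∀ i ∈ L0, i < D.rank)
    (hflip : ∀ k : Fin P.m, wL D L0 (D.neg (D.simple (P.nd k))) = D.simple (P.nd k))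
    {a : ℕ → ℤ} {M : ℕ} (hM : Fintype.card F - 1 = M) (h : CaseOK D P L0 a M) :
    ∃ c : D.group F, ∀ g : D.group F, ∃ u v : D.group F, g = (u * c * u⁻¹) * (v * c * v⁻¹) := by
  classical
  obtain ⟨ρ, hρ⟩ := IsCyclic.exists_ofOrder_eq_natCard (α := Fˣ)
  have hord : orderOf ρ = M := by rw [hρ, Nat.card_eq_fintype_card, Fintype.card_units, hM]
  have key : ∀ z : ℤ, ρ ^ z = 1 ↔ z % (M : ℤ) = 0 := fun z => by
    rw [← orderOf_dvd_iff_zpow_eq_one, hord, Int.dvd_iff_emod_eq_zero]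
  obtain ⟨x, hx, hall⟩ := exists_class hC hP hn (s := fun i => ρ ^ a i)
    (fun r hr hp e => h.1 r hr hp ((key _).1 (by rw [← torChar_rho]; exact e)))
    (fun k => by rw [torChar_rho]; exact (key _).2 (h.2.1 k))
    hF hT hrk hL0
    (fun r hr => by
      rw [torChar_rho, torChar_rho, ← zpow_neg, eq_comm]
      refine eq_of_mul_inv_eq_one ?_
      rw [← zpow_neg, ← zpow_add, key]
      have := Int.dvd_of_emod_eq_zero (h.2.2 r hr)
      refine Int.emod_eq_zero_of_dvd ?_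
      have h2 : -lin D a r + -lin D a (wL D L0.reverse r) =
          -(lin D a (wL D L0.reverse r) + lin D a r) := by ring
      rw [h2]
      exact dvd_neg.2 this)
    hflip
  refine ⟨⟨x, hx⟩, fun g => ?_⟩
  obtain ⟨b, c, ⟨u, hu, rfl⟩, ⟨v, hv, rfl⟩, e⟩ := hall g g.2
  exact ⟨⟨u, hu⟩, ⟨v, hv⟩, Subtype.ext e⟩

/-- A regular cocharacter with small values works for all large fields. -/
theorem case_of_bound {P : LevData} (hm : P.m = 0) (hsep : Sep D T P.dg) {L0 : List ℕ} {a : ℕ → ℤ}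
    (hrev : ∀ r < D.nroots, lin D a (wL D L0.reverse r) + lin D a r = 0) {B : ℤ}
    (hreg : ∀ r < D.nroots, 0 < T.phi r → 0 < lin D a r ∧ lin D a r ≤ B) {M : ℕ} (hB : B < M) :
    CaseOK D P L0 a M := by
  refine ⟨fun r hr hp => ?_, fun k => absurd k.2 (by omega), fun r hr => by rw [hrev r hr]; simp⟩
  obtain ⟨h1, h2⟩ := hreg r hr (lin_of_pos hC hsep hr hp)
  rw [Int.emod_eq_of_lt h1.le (by omega)]
  omega

omit hn hT in
theorem rev_of_neg {L0 : List ℕ} (h : ∀ r < D.nroots, wL D L0.reverse r = D.neg r) (a : ℕ → ℤ)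
    (r : ℕ) (hr : r < D.nroots) : lin D a (wL D L0.reverse r) + lin D a r = 0 := by
  rw [h r hr, lin_neg hC a hr, neg_add_cancel]

omit hn hT in
theorem wL_tab {L : List ℕ} (hL : ∀ i ∈ L, i < D.rank) {r : ℕ} (hr : r < D.nroots) :
    wL D L r = L.foldr T.refl r := by
  induction L with
  | nil => rfl
  | cons i L ih =>
    have hL' : ∀ j ∈ L, j < D.rank := fun j hj => hL j (List.mem_cons_of_mem i hj)
    show D.reflectRoot i (wL D L r) = T.refl i (L.foldr T.refl r)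
    rw [← ih hL', hC.reflect_eq (hL i List.mem_cons_self) (wL_lt hC hL' hr)]

omit hn hT in
theorem rev_tab {L0 : List ℕ} (hL : ∀ i ∈ L0, i < D.rank) {r : ℕ} (hr : r < D.nroots) :
    wL D L0.reverse r = L0.reverse.foldr T.refl r :=
  wL_tab hC (fun i hi => hL i (List.mem_reverse.1 hi)) hr

omit hn hT in
theorem neg_of_tab {L0 : List ℕ} (hL : ∀ i ∈ L0, i < D.rank)
    (h : ∀ r < T.n, L0.reverse.foldr T.refl r = T.neg r) :
    ∀ r < D.nroots, wL D L0.reverse r = D.neg r := fun r hr => by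
  rw [rev_tab hC hL hr, h r (by rw [hC.n_eq]; exact hr), hC.neg_eq hr]

end Cfsg.Agent.ClassSquareGauss.Chev
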