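import Cfsg.Agent.Lib.ClassSquareGauss.Chev.Twist
import Cfsg.Agent.Lib.Chevalley.SingleBond.Block
import Cfsg.Agent.Lib.Classical.Linear

/-!
A Levi subgroup of type `A` acting on a natural block of the adjoint module.
-/

set_option autoImplicit false
set_option linter.unusedSectionVars false

open scoped Matrix

namespace Cfsg.Agent.ClassSquareGauss.Chev

open Cfsg.Lie Cfsg.Agent.Chevalley Cfsg.Agent.Chevalley.Cert Cfsg.Agent.Chevalley.Group
  Cfsg.Agent.Chevalley.Table Cfsg.Agent.Chevalley.Unip Cfsg.Agent.Chevalley.Borel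
  Cfsg.Agent.Chevalley.Graded Cfsg.Agent.Chevalley.SingleBond Cfsg.Agent.Chevalley.Weight

variable {D : ChevalleyDatum} {F : Type*} [Field F] {T : Tab}

/-- A root of the Levi subgroup with the position and sign of its entry, and a word from a node. -/
structure Ent (m : ℕ) where
  r : ℕ
  x : Fin (m + 1)
  y : Fin (m + 1)
  sgn : ℤ
  w : List ℕ
  i : ℕ

/-- The data of a Levi subgroup of type `A_m` and a node acting on its block by a determinant. -/
structure LevData where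
  m : ℕ
  nd : Fin m → ℕ
  b : Fin (m + 1) → ℕ
  d : Fin (m + 1) → ℤ
  ents : List (Ent m)
  wt : Fin (m + 1) → ℤ
  dg : ℕ → ℤ
  lw : List ℕ
  f : ℕ

/-- The nodes. -/
def LevData.inS (P : LevData) (l : ℕ) : Prop := ∃ k : Fin P.m, P.nd k = l

instance (P : LevData) (l : ℕ) : Decidable (P.inS l) :=
  inferInstanceAs (Decidable (∃ k : Fin P.m, P.nd k = l))

/-- The block. -/
def LevData.blk (P : LevData) (D : ChevalleyDatum) : Blk (P.m + 1) :=
  ⟨fun k => D.rank + P.b k, P.d, []⟩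

/-- The block adapted to one root. -/
def LevData.entBlk (P : LevData) (D : ChevalleyDatum) (e : Ent P.m) : Blk (P.m + 1) :=
  ⟨fun k => D.rank + P.b k, Function.update P.d e.x (e.sgn * P.d e.x), [(e.r, some (e.x, e.y))]⟩

/-- The checks. -/
structure LevOK (D : ChevalleyDatum) (T : Tab) (P : LevData) : Prop where
  nd_lt : ∀ k : Fin P.m, P.nd k < D.rank
  sep : ∀ r < D.nroots, 0 < T.phi r → 0 ≤ lin D P.dg r
  dg_nd : ∀ k : Fin P.m, lin D P.dg (D.simple (P.nd k)) = 0
  wf : (∀ i j, P.b i = P.b j → i = j) ∧ (∀ j, P.b j < D.nroots) ∧ ∀ j, P.d j * P.d j = 1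
  ents_ok : ∀ e ∈ P.ents, e.r < D.nroots ∧ e.x ≠ e.y ∧ e.sgn * e.sgn = 1 ∧
    blkChk T (P.entBlk D e) = true ∧ P.inS e.i ∧ (∀ l ∈ e.w, P.inS l) ∧
    wL D e.w (D.simple e.i) = e.r
  pos_ents : ∀ r < D.nroots, 0 < T.phi r → lin D P.dg r = 0 →
    ∃ e ∈ P.ents, e.r = r ∧ P.wt e.x - P.wt e.y = T.phi r
  neg_ents : ∀ r < D.nroots, T.phi r < 0 → lin D P.dg r = 0 →
    ∃ e ∈ P.ents, e.r = r ∧ P.wt e.x - P.wt e.y < 0
  off : ∀ x y : Fin (P.m + 1), x ≠ y → ∃ e ∈ P.ents, e.x = x ∧ e.y = y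
  up : ∀ k : Fin P.m, ∃ e ∈ P.ents, e.r = D.simple (P.nd k) ∧ e.x = k.castSucc ∧ e.y = k.succ ∧ e.sgn = 1
  dn : ∀ k : Fin P.m, ∃ e ∈ P.ents, e.r = D.neg (D.simple (P.nd k)) ∧ e.x = k.succ ∧
    e.y = k.castSucc ∧ e.sgn = 1
  lw_ok : (∀ l ∈ P.lw, P.inS l) ∧
    ∀ r < D.nroots, T.phi r < 0 → lin D P.dg r = 0 → 0 < T.phi (wL D P.lw r)
  wts : ∀ (k : Fin P.m) (j : Fin (P.m + 1)), D.cartan (P.nd k) (P.b j) =
    (if j = k.castSucc then 1 else 0) - (if j = k.succ then 1 else 0)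
  fdet : P.f < D.rank ∧ (P.m = 0 ∨
    ((D.cartan P.f (P.b 0) - D.cartan P.f (P.b (Fin.last P.m))).natAbs = 1 ∧
      ∀ j : Fin (P.m + 1), j ≠ 0 → D.cartan P.f (P.b j) = D.cartan P.f (P.b (Fin.last P.m))))

/-- The Levi subgroup. -/
abbrev LevData.grp (P : LevData) (hC : Certified D T) (F : Type*) [Field F] : Subgroup (GL D.Idx F) :=
  MS hC F P.inS

/-- An element acts on the block by a matrix. -/
abbrev LevData.Act (P : LevData) (D : ChevalleyDatum) {F : Type*} [Field F] (g : GL D.Idx F)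
    (A : Matrix.SpecialLinearGroup (Fin (P.m + 1)) F) : Prop :=
  Acts (P.blk D) g A

variable (hC : Certified D T) {P : LevData} (hP : LevOK D T P)
include hC hP

local notation "SLm" => Matrix.SpecialLinearGroup (Fin (P.m + 1)) F

theorem wf_blk : blkWF (D.rank + D.nroots) (P.blk D) := by
  obtain ⟨h1, h2, h3⟩ := hP.wf
  exact ⟨fun i j e => h1 i j (by simpa [LevData.blk] using e), fun j => by
    show D.rank + P.b j < _; have := h2 j; omega, h3, fun g hg => by simp [LevData.blk] at hg⟩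

theorem act_one : P.Act D (1 : GL D.Idx F) 1 :=
  (actPairs D F (P.blk D)).one_mem

theorem act_mul {g h : GL D.Idx F} {A A' : SLm} (hg : P.Act D g A) (hh : P.Act D h A') :
    P.Act D (g * h) (A * A') :=
  (actPairs D F (P.blk D)).mul_mem (x := (g, A)) (y := (h, A')) hg hh

theorem act_inv {g : GL D.Idx F} {A : SLm} (hg : P.Act D g A) : P.Act D g⁻¹ A⁻¹ :=
  (actPairs D F (P.blk D)).inv_mem (x := (g, A)) hg

theorem act_unique {g : GL D.Idx F} {A A' : SLm} (h : P.Act D g A) (h' : P.Act D g A') : A = A' :=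
  acts_unique (wf_blk hC hP) h h'

theorem ent_act {e : Ent P.m} (he : e ∈ P.ents) (t : F) {A : SLm}
    (hA : A.1 = 1 + Matrix.single e.x e.y ((e.sgn : F) * t)) : P.Act D (xg hC e.r t) A := by
  obtain ⟨h1, h2, h3, h4, -, -, -⟩ := hP.ents_ok e he
  have hwf : blkWF (D.rank + D.nroots) (P.entBlk D e) := by
    obtain ⟨w1, w2, w3⟩ := hP.wf
    refine ⟨fun i j e' => w1 i j (by simpa [LevData.entBlk] using e'), fun j => by
      show D.rank + P.b j < _; have := w2 j; omega, fun j => ?_, fun g hg a c hgc => ?_⟩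
    · show Function.update P.d e.x (e.sgn * P.d e.x) j * Function.update P.d e.x (e.sgn * P.d e.x) j = 1
      by_cases hj : j = e.x
      · subst hj; simp only [Function.update_self]
        linear_combination (e.sgn * e.sgn) * w3 e.x + h3
      · simp [Function.update_of_ne hj, w3]
    · simp only [LevData.entBlk, List.mem_singleton] at hg
      subst hg
      simp only [Option.some.injEq, Prod.mk.injEq] at hgc
      obtain ⟨rfl, rfl⟩ := hgc
      exact h2
  let A0 : SLm := Matrix.SpecialLinearGroup.transvection h2 t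
  have h0 : Acts (P.entBlk D e) (xg hC e.r t) A0 :=
    acts_gen hC hwf h4 (g := (e.r, some (e.x, e.y))) (List.mem_singleton_self _) t
      (by simp [A0, Matrix.SpecialLinearGroup.transvection_coe, Matrix.transvection])
  obtain ⟨ε, hε⟩ : ∃ ε : Fin (P.m + 1) → F,
      ε = Function.update (fun _ => (1 : F)) e.x (e.sgn : F) := ⟨_, rfl⟩
  have hσ : (e.sgn : F) * (e.sgn : F) = 1 := by exact_mod_cast congrArg (Int.cast : ℤ → F) h3
  have hb : ∀ j, bv D F (P.entBlk D e) j = ε j • bv D F (P.blk D) j := by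
    intro j
    simp only [bv, LevData.entBlk, LevData.blk, smul_smul, hε]
    by_cases hj : j = e.x
    · subst hj; simp
    · simp [Function.update_of_ne hj]
  have hεε : ∀ j, ε j * ε j = 1 := fun j => by
    by_cases hj : j = e.x
    · subst hj; simpa [hε] using hσ
    · simp [hε, Function.update_of_ne hj]
  intro j
  have h5 := h0 j
  simp only [hb, Matrix.mulVec_smul, smul_smul] at h5
  have h6 := congrArg (fun v => ε j • v) h5
  simp only [smul_smul, hεε, one_smul, Finset.smul_sum] at h6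
  rw [h6]
  refine Finset.sum_congr rfl fun i _ => ?_
  congr 1
  rw [hA]
  simp only [A0, Matrix.SpecialLinearGroup.transvection_coe, Matrix.transvection, Matrix.add_apply]
  by_cases hij : i = j
  · subst hij
    have hne : ∀ c : F, Matrix.single e.x e.y c i i = 0 := fun c => by
      rw [Matrix.single_apply, if_neg]; rintro ⟨h7, h8⟩; exact h2 (h7.trans h8.symm)
    simp [hne, hεε]
  · by_cases hxy : e.x = i ∧ e.y = j
    · obtain ⟨rfl, rfl⟩ := hxy
      simp [hij, hε, Function.update_of_ne (Ne.symm hij)]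
      ring
    · simp [hij, Matrix.single_apply, hxy]

theorem nL_mem_grp : ∀ {L : List ℕ}, (∀ l ∈ L, P.inS l) → nL hC F L ∈ P.grp hC F := by
  intro L
  induction L with
  | nil => intro _; simp [nL]
  | cons i L ih =>
    intro h
    obtain ⟨k, rfl⟩ := h i List.mem_cons_self
    rw [show nL hC F (P.nd k :: L) = ng hC (D.simple (P.nd k)) 1 * nL hC F L by simp [nL]]
    refine mul_mem (mul_mem (mul_mem ?_ ?_) ?_) (ih fun l hl => h l (List.mem_cons_of_mem _ hl))
    · exact X_mem_MS hC (hP.nd_lt k) ⟨k, rfl⟩ 1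
    · exact Y_mem_MS hC (hP.nd_lt k) ⟨k, rfl⟩ _
    · exact X_mem_MS hC (hP.nd_lt k) ⟨k, rfl⟩ 1

theorem word_lt {L : List ℕ} (h : ∀ l ∈ L, P.inS l) : ∀ i ∈ L, i < D.rank := fun i hi => by
  obtain ⟨k, rfl⟩ := h i hi; exact hP.nd_lt k

theorem ent_mem {e : Ent P.m} (he : e ∈ P.ents) (t : F) : xg hC e.r t ∈ P.grp hC F := by
  obtain ⟨-, -, -, -, hi, hw, hr⟩ := hP.ents_ok e he
  obtain ⟨k, hk⟩ := hi
  have hwl := word_lt hC hP hw
  obtain ⟨η, hη0, hη⟩ := nL_conj_x (F := F) hC hwl (hC.simple_lt (show e.i < D.rank from hk ▸ hP.nd_lt k))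
  have := hη (η⁻¹ * t)
  rw [hr, mul_inv_cancel_left₀ hη0] at this
  rw [← this]
  exact mul_mem (mul_mem (nL_mem_grp hC hP hw) (X_mem_MS hC (hk ▸ hP.nd_lt k) ⟨k, hk⟩ _))
    (inv_mem (nL_mem_grp hC hP hw))

theorem exists_act {g : GL D.Idx F} (hg : g ∈ P.grp hC F) : ∃ A, P.Act D g A := by
  induction hg using Subgroup.closure_induction with
  | mem g hg =>
    obtain ⟨i, hi, ⟨k, rfl⟩, t, rfl | rfl⟩ := hg
    · obtain ⟨e, he, hr, hx, hy, hσ⟩ := hP.up k
      have h2 := (hP.ents_ok e he).2.1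
      refine ⟨Matrix.SpecialLinearGroup.transvection h2 t, ?_⟩
      rw [X, ← hr]
      exact ent_act hC hP he t (by
        simp [Matrix.SpecialLinearGroup.transvection_coe, Matrix.transvection, hσ])
    · obtain ⟨e, he, hr, hx, hy, hσ⟩ := hP.dn k
      have h2 := (hP.ents_ok e he).2.1
      refine ⟨Matrix.SpecialLinearGroup.transvection h2 t, ?_⟩
      rw [Y, ← hr]
      exact ent_act hC hP he t (by
        simp [Matrix.SpecialLinearGroup.transvection_coe, Matrix.transvection, hσ])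
  | one => exact ⟨1, act_one hC hP⟩
  | mul g h _ _ ih ih' =>
    obtain ⟨A, hA⟩ := ih; obtain ⟨A', hA'⟩ := ih'
    exact ⟨A * A', act_mul hC hP hA hA'⟩
  | inv g _ ih =>
    obtain ⟨A, hA⟩ := ih
    exact ⟨A⁻¹, act_inv hC hP hA⟩

theorem exists_elem (A : SLm) : ∃ g ∈ P.grp hC F, P.Act D g A := by
  let S : Subgroup SLm :=
    { carrier := {A | ∃ g ∈ P.grp hC F, P.Act D g A}
      one_mem' := ⟨1, one_mem _, act_one hC hP⟩
      mul_mem' := fun ⟨g, hg, hA⟩ ⟨h, hh, hA'⟩ => ⟨g * h, mul_mem hg hh, act_mul hC hP hA hA'⟩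
      inv_mem' := fun ⟨g, hg, hA⟩ => ⟨g⁻¹, inv_mem hg, act_inv hC hP hA⟩ }
  have hS : S = ⊤ := Classical.Linear.eq_top_of_transvection_mem S fun x y hxy c => by
    obtain ⟨e, he, hx, hy⟩ := hP.off x y hxy
    have h3 := (hP.ents_ok e he).2.2.1
    have hσ : (e.sgn : F) * (e.sgn : F) = 1 := by exact_mod_cast congrArg (Int.cast : ℤ → F) h3
    refine ⟨xg hC e.r ((e.sgn : F) * c), ent_mem hC hP he _, ent_act hC hP he _ ?_⟩
    rw [Matrix.SpecialLinearGroup.transvection_coe, hx, hy, ← mul_assoc, hσ, one_mul]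
  exact (hS ▸ Subgroup.mem_top A : A ∈ S)

/-- The diagonal action of the torus. -/
theorem tor_bv (c : ℕ → Fˣ) (j : Fin (P.m + 1)) :
    ((tor D c : GL D.Idx F) : Matrix D.Idx D.Idx F) *ᵥ bv D F (P.blk D) j =
      (torChar D c (P.b j) : F) • bv D F (P.blk D) j := by
  have hb := hP.wf.2.1 j
  rw [coe_tor hC, bv, LevData.blk]
  show Root.dMat D F _ *ᵥ ((P.d j : F) • Cfsg.Agent.Chevalley.Eval.basis D F (D.rank + P.b j)) = _
  rw [Matrix.mulVec_smul, show Cfsg.Agent.Chevalley.Eval.basis D F (D.rank + P.b j) = Columns.ev D F (P.b j) from rfl,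
    Root.dMat_v _ hb, smul_comm]

theorem tor_act {c : ℕ → Fˣ} {g : GL D.Idx F} {A A' : SLm} (h : P.Act D g A)
    (hA : ∀ i j, A'.1 i j * (torChar D c (P.b j) : F) = (torChar D c (P.b i) : F) * A.1 i j) :
    P.Act D (tor D c * g * (tor D c)⁻¹) A' := by
  intro j
  have hinv : ((tor D c : GL D.Idx F)⁻¹ : GL D.Idx F) = tor D c⁻¹ := tor_inv c
  rw [hinv, Units.val_mul, Units.val_mul, ← Matrix.mulVec_mulVec, tor_bv hC hP, Matrix.mulVec_smul,
    ← Matrix.mulVec_mulVec, h j, Matrix.mulVec_sum, Finset.smul_sum]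
  refine Finset.sum_congr rfl fun i _ => ?_
  rw [Matrix.mulVec_smul, tor_bv hC hP, smul_smul, smul_smul, torChar_inv, Units.val_inv_eq_inv_val]
  congr 1
  have := hA i j
  field_simp
  linear_combination -this

end Cfsg.Agent.ClassSquareGauss.Chev
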