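import Cfsg.Agent.Lib.ClassSquareGauss.Chev.Radical

/-!
The big cell of the subgroup generated by some simple root groups and their opposites.
-/

set_option autoImplicit false

namespace Cfsg.Agent.ClassSquareGauss.Chev

open Cfsg.Lie Cfsg.Agent.Chevalley Cfsg.Agent.Chevalley.Cert Cfsg.Agent.Chevalley.Group
  Cfsg.Agent.Chevalley.Table Cfsg.Agent.Chevalley.Unip Cfsg.Agent.Chevalley.Borel
  Cfsg.Agent.Chevalley.Graded

variable {D : ChevalleyDatum} {F : Type*} [Field F] {T : Tab}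

/-- A degree vanishing exactly on the root and its negative, for each node. -/
def NodeOK (D : ChevalleyDatum) (T : Tab) (nv : ℕ → ℕ → ℤ) : Prop :=
  ∀ i < D.rank, Sep D T (nv i) ∧ lin D (nv i) (D.simple i) = 0 ∧
    ∀ r < D.nroots, lin D (nv i) r = 0 → r = D.simple i ∨ r = D.neg (D.simple i)

/-- `x_{α_i}(t)` -/
abbrev X (hC : Certified D T) (i : ℕ) (t : F) : GL D.Idx F := xg hC (D.simple i) t

/-- `x_{-α_i}(t)` -/
abbrev Y (hC : Certified D T) (i : ℕ) (t : F) : GL D.Idx F := xg hC (D.neg (D.simple i)) t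

/-- The subgroup of the nodes in `S`. -/
def MS (hC : Certified D T) (F : Type*) [Field F] (S : ℕ → Prop) : Subgroup (GL D.Idx F) :=
  Subgroup.closure {g : GL D.Idx F | ∃ i < D.rank, S i ∧ ∃ t : F, g = X hC i t ∨ g = Y hC i t}

/-- The vector supported at one node. -/
def single1 (i : ℕ) (S : Fˣ) : ℕ → Fˣ := fun j => if j = i then S else 1

variable (hC : Certified D T)
include hC

theorem X_mem_MS {S : ℕ → Prop} {i : ℕ} (hi : i < D.rank) (h : S i) (t : F) :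
    X hC i t ∈ MS hC F S :=
  Subgroup.subset_closure ⟨i, hi, h, t, Or.inl rfl⟩

theorem Y_mem_MS {S : ℕ → Prop} {i : ℕ} (hi : i < D.rank) (h : S i) (t : F) :
    Y hC i t ∈ MS hC F S :=
  Subgroup.subset_closure ⟨i, hi, h, t, Or.inr rfl⟩

theorem MS_le_group (S : ℕ → Prop) : MS hC F S ≤ D.group F := by
  refine (Subgroup.closure_le _).2 ?_
  rintro _ ⟨i, hi, -, t, rfl | rfl⟩
  · exact xg_mem_group hC (hC.simple_lt hi) t
  · exact xg_mem_group hC (hC.neg_lt (hC.simple_lt hi)) t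

theorem MS_le_homog {S : ℕ → Prop} {a : ℕ → ℤ}
    (h : ∀ i < D.rank, S i → lin D a (D.simple i) = 0) :
    MS hC F S ≤ homogSubgroup (D := D) (F := F) a := by
  refine (Subgroup.closure_le _).2 ?_
  rintro _ ⟨i, hi, hS, t, rfl | rfl⟩
  · exact xg_mem_homog hC a (hC.simple_lt hi) (h i hi hS) t
  · exact xg_mem_homog hC a (hC.neg_lt (hC.simple_lt hi))
      (by rw [lin_neg hC a (hC.simple_lt hi), h i hi hS, neg_zero]) t

theorem tor_conj_MS {S : ℕ → Prop} (c : ℕ → Fˣ) {g : GL D.Idx F} (hg : g ∈ MS hC F S) :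
    tor D c * g * (tor D c)⁻¹ ∈ MS hC F S := by
  suffices h : MS hC F S ≤ (MS hC F S).comap (MulAut.conj (tor D c)).toMonoidHom from h hg
  refine (Subgroup.closure_le _).2 ?_
  rintro _ ⟨i, hi, hS, t, rfl | rfl⟩
  · show tor D c * X hC i t * (tor D c)⁻¹ ∈ MS hC F S
    rw [X, tor_conj_x hC c _ t (hC.simple_lt hi)]
    exact X_mem_MS hC hi hS _
  · show tor D c * Y hC i t * (tor D c)⁻¹ ∈ MS hC F S
    rw [Y, tor_conj_x hC c _ t (hC.neg_lt (hC.simple_lt hi))]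
    exact Y_mem_MS hC hi hS _

theorem hg_single {i : ℕ} (hi : i < D.rank) (S : Fˣ) :
    hg hC (D.simple i) (S : F) = tor D (single1 i S) :=
  hg_simple hC hi S

/-! ### Rank one -/

/-- The map from `SL₂` attached to a root. -/
noncomputable def phi {r : ℕ} (hr : r < D.nroots) :
    Matrix.SpecialLinearGroup (Fin 2) F →* GL D.Idx F :=
  (SL2.exists_hom (SL2.rank1 (F := F) hC hr)).choose

theorem phi_sx {r : ℕ} (hr : r < D.nroots) (t : F) : phi hC hr (SL2.sx t) = xg hC r t :=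
  (SL2.exists_hom (SL2.rank1 (F := F) hC hr)).choose_spec.1 t

theorem phi_sy {r : ℕ} (hr : r < D.nroots) (t : F) : phi hC hr (SL2.sy t) = xg hC (D.neg r) t :=
  (SL2.exists_hom (SL2.rank1 (F := F) hC hr)).choose_spec.2.1 t

/-- A diagonal element as a word. -/
def dw (a : Fˣ) : Matrix.SpecialLinearGroup (Fin 2) F :=
  SL2.sx (a : F) * SL2.sy (-(a : F)⁻¹) * SL2.sx (a : F) *
    (SL2.sx (-1 : F) * SL2.sy 1 * SL2.sx (-1 : F))

omit hC in
theorem coe_dw (a : Fˣ) : ((dw a : Matrix.SpecialLinearGroup (Fin 2) F) :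
    Matrix (Fin 2) (Fin 2) F) = !![(a : F), 0; 0, (a : F)⁻¹] := by
  ext i j
  fin_cases i <;> fin_cases j <;> simp [dw, Matrix.mul_apply, Fin.sum_univ_two]

theorem phi_dw {r : ℕ} (hr : r < D.nroots) (a : Fˣ) : phi hC hr (dw a) = hg hC r (a : F) := by
  simp only [dw, map_mul, phi_sx, phi_sy, hg, ng, inv_neg, inv_one, neg_neg]

omit hC in
theorem sx_sy {r c : F} (hs : 1 + r * c ≠ 0) :
    (SL2.sx r * SL2.sy c : Matrix.SpecialLinearGroup (Fin 2) F) =
      SL2.sy (c / (1 + r * c)) * dw (Units.mk0 _ hs) * SL2.sx (r / (1 + r * c)) := by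
  apply Subtype.ext
  rw [Matrix.SpecialLinearGroup.coe_mul, Matrix.SpecialLinearGroup.coe_mul,
    Matrix.SpecialLinearGroup.coe_mul, coe_dw]
  ext i j
  fin_cases i <;> fin_cases j <;>
    simp [Matrix.mul_apply, Fin.sum_univ_two] <;>
    generalize hS : 1 + r * c = S at hs ⊢ <;> field_simp <;> rw [← hS] <;> ring

theorem X_Y {i : ℕ} (hi : i < D.rank) {r c : F} (S : Fˣ) (hS : (S : F) = 1 + r * c) :
    X hC i r * Y hC i c = Y hC i (c / S) * tor D (single1 i S) * X hC i (r / S) := by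
  have hr := hC.simple_lt hi
  have hs : 1 + r * c ≠ 0 := hS ▸ S.ne_zero
  have := congrArg (phi hC hr) (sx_sy (F := F) hs)
  have e : Units.mk0 _ hs = S := Units.ext hS.symm
  simp only [map_mul, phi_sx, phi_sy, phi_dw] at this
  rw [e, hg_single hC hi, ← hS] at this
  exact this

/-! ### Splitting at a node -/

theorem posZ_node {nv : ℕ → ℕ → ℤ} (hn : NodeOK D T nv) {i : ℕ} (hi : i < D.rank) {k : GL D.Idx F}
    (hk : k ∈ posZ hC F (nv i)) : ∃ t : F, k = X hC i t := by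
  induction hk using Subgroup.closure_induction with
  | mem g hg =>
    obtain ⟨r, t, hr, ⟨hp, h0⟩, rfl⟩ := hg
    rcases (hn i hi).2.2 r hr h0 with rfl | rfl
    · exact ⟨t, rfl⟩
    · rw [hC.phi_neg (hC.simple_lt hi)] at hp
      have := hC.phi_simple hi
      omega
  | one => exact ⟨0, (xg_zero hC _).symm⟩
  | mul g g' _ _ ih ih' =>
    obtain ⟨t, rfl⟩ := ih; obtain ⟨t', rfl⟩ := ih'
    exact ⟨t + t', (xg_add hC _ t t').symm⟩
  | inv g _ ih =>
    obtain ⟨t, rfl⟩ := ih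
    exact ⟨-t, xg_inv hC _ t⟩

theorem negZ_node {nv : ℕ → ℕ → ℤ} (hn : NodeOK D T nv) {i : ℕ} (hi : i < D.rank) {k : GL D.Idx F}
    (hk : k ∈ negZ hC F (nv i)) : ∃ t : F, k = Y hC i t := by
  induction hk using Subgroup.closure_induction with
  | mem g hg =>
    obtain ⟨r, t, hr, ⟨hp, h0⟩, rfl⟩ := hg
    rcases (hn i hi).2.2 r hr h0 with rfl | rfl
    · have := hC.phi_simple hi
      omega
    · exact ⟨t, rfl⟩
  | one => exact ⟨0, (xg_zero hC _).symm⟩
  | mul g g' _ _ ih ih' =>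
    obtain ⟨t, rfl⟩ := ih; obtain ⟨t', rfl⟩ := ih'
    exact ⟨t + t', (xg_add hC _ t t').symm⟩
  | inv g _ ih =>
    obtain ⟨t, rfl⟩ := ih
    exact ⟨-t, xg_inv hC _ t⟩

variable {nv : ℕ → ℕ → ℤ} (hn : NodeOK D T nv) {i : ℕ} (hi : i < D.rank)
include hn hi

theorem U_node {u : GL D.Idx F} (hu : u ∈ D.posUnipotent F) :
    ∃ p ∈ posS hC F (nv i), ∃ t : F, u = p * X hC i t := by
  obtain ⟨p, hp, k, hk, rfl⟩ := U_split_deg hC (hn i hi).1 hu
  obtain ⟨t, rfl⟩ := posZ_node hC hn hi hk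
  exact ⟨p, hp, t, rfl⟩

theorem X_conj_pos (t : F) {g : GL D.Idx F} (hg : g ∈ posS hC F (nv i)) :
    X hC i t * g * (X hC i t)⁻¹ ∈ posS hC F (nv i) :=
  conj_posS hC (hC.simple_lt hi) (hn i hi).2.1 t hg

theorem X_conj_neg (t : F) {g : GL D.Idx F} (hg : g ∈ negS hC F (nv i)) :
    X hC i t * g * (X hC i t)⁻¹ ∈ negS hC F (nv i) :=
  conj_negS hC (hC.simple_lt hi) (hn i hi).2.1 t hg

theorem Y_conj_pos (t : F) {g : GL D.Idx F} (hg : g ∈ posS hC F (nv i)) :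
    Y hC i t * g * (Y hC i t)⁻¹ ∈ posS hC F (nv i) :=
  conj_posS hC (hC.neg_lt (hC.simple_lt hi))
    (by rw [lin_neg hC _ (hC.simple_lt hi), (hn i hi).2.1, neg_zero]) t hg

theorem Y_conj_neg (t : F) {g : GL D.Idx F} (hg : g ∈ negS hC F (nv i)) :
    Y hC i t * g * (Y hC i t)⁻¹ ∈ negS hC F (nv i) :=
  conj_negS hC (hC.neg_lt (hC.simple_lt hi))
    (by rw [lin_neg hC _ (hC.simple_lt hi), (hn i hi).2.1, neg_zero]) t hg

theorem V_node {v : GL D.Idx F} (hv : v ∈ D.negUnipotent F) :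
    ∃ t : F, ∃ w ∈ negS hC F (nv i), v = Y hC i t * w := by
  obtain ⟨p, hp, k, hk, rfl⟩ := V_split_deg hC (hn i hi).1 hv
  obtain ⟨t, rfl⟩ := negZ_node hC hn hi hk
  refine ⟨t, _, Y_conj_neg hC hn hi (-t) hp, ?_⟩
  rw [Y, Y, ← xg_inv hC]
  group

theorem negS_V {w : GL D.Idx F} (hw : w ∈ negS hC F (nv i)) : w ∈ D.negUnipotent F :=
  negS_le_V hC (hn i hi).1 hw

theorem posS_U {w : GL D.Idx F} (hw : w ∈ posS hC F (nv i)) : w ∈ D.posUnipotent F :=
  posS_le_U hC (hn i hi).1 hw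

omit hn in
theorem X_mem_U (t : F) : X hC i t ∈ D.posUnipotent F :=
  xg_mem_U hC (hC.simple_lt hi) (hC.phi_simple hi) t

omit hn in
theorem Y_mem_V (t : F) : Y hC i t ∈ D.negUnipotent F := by
  refine xg_mem_V hC (hC.neg_lt (hC.simple_lt hi)) ?_ t
  rw [hC.phi_neg (hC.simple_lt hi)]
  have := hC.phi_simple hi
  omega

omit hn hi

theorem tor_conj_U (c : ℕ → Fˣ) {u : GL D.Idx F} (hu : u ∈ D.posUnipotent F) :
    tor D c * u * (tor D c)⁻¹ ∈ D.posUnipotent F :=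
  (Subgroup.mem_normalizer_iff.1 (H_normalizes_U hC (tor_mem_H hC c)) u).1 hu

theorem tor_conj_U' (c : ℕ → Fˣ) {u : GL D.Idx F} (hu : u ∈ D.posUnipotent F) :
    (tor D c)⁻¹ * u * tor D c ∈ D.posUnipotent F := by
  have := tor_conj_U hC c⁻¹ hu
  rwa [← tor_inv, inv_inv] at this

theorem tor_conj_V (c : ℕ → Fˣ) {u : GL D.Idx F} (hu : u ∈ D.negUnipotent F) :
    tor D c * u * (tor D c)⁻¹ ∈ D.negUnipotent F :=
  (Subgroup.mem_normalizer_iff.1 (H_normalizes_V hC (tor_mem_H hC c)) u).1 hu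

omit hC in
/-- The translates of the big cell of the subgroup of `S`. -/
def Cell (S : ℕ → Prop) (g : GL D.Idx F) : Prop :=
  ∃ a ∈ D.posUnipotent F ⊓ MS hC F S, ∃ b ∈ D.negUnipotent F ⊓ MS hC F S, ∃ c : ℕ → Fˣ,
    (∀ l < D.rank, ¬ S l → c l = 1) ∧ ∃ u ∈ D.posUnipotent F ⊓ MS hC F S, g = a * b * tor D c * u

include hn

theorem cell_pos {S : ℕ → Prop} (hi : i < D.rank) (hS : S i) (t : F) {g : GL D.Idx F}
    (hg : Cell hC S g) : Cell hC S (X hC i t * g) := by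
  obtain ⟨a, ha, b, hb, c, hc, u, hu, rfl⟩ := hg
  exact ⟨_, mul_mem (s := D.posUnipotent F ⊓ MS hC F S) ⟨X_mem_U hC hi t, X_mem_MS hC hi hS t⟩ ha,
    b, hb, c, hc, u, hu, by simp only [mul_assoc]⟩

omit hn in
theorem rank_one_cell (hi : i < D.rank) (t s r : F) :
    ∃ (s0 l m : F) (d : Fˣ),
      Y hC i t * X hC i s * Y hC i r = X hC i s0 * Y hC i l * tor D (single1 i d) * X hC i m := by
  have hr := hC.simple_lt hi
  obtain ⟨M, hM⟩ : ∃ M : Matrix.SpecialLinearGroup (Fin 2) F,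
      M = SL2.sy t * SL2.sx s * SL2.sy r := ⟨_, rfl⟩
  obtain ⟨s0, M', hMM, h00⟩ : ∃ (s0 : F) (M' : Matrix.SpecialLinearGroup (Fin 2) F),
      M = SL2.sx s0 * M' ∧ SL2.el M' 0 0 ≠ 0 := by
    by_cases h00 : SL2.el M 0 0 = 0
    · refine ⟨1, (SL2.sx (1 : F))⁻¹ * M, by group, fun h => ?_⟩
      have e : (SL2.sx (1 : F))⁻¹ = SL2.sx (-1) := inv_eq_of_mul_eq_one_right (by
        ext i j; fin_cases i <;> fin_cases j <;> simp [Matrix.mul_apply, Fin.sum_univ_two])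
      rw [e, SL2.el_mul] at h
      simp [SL2.el] at h h00
      have := SL2.el_det M
      simp [SL2.el, h00] at this
      rw [h00] at h
      simp at h
      rw [h] at this
      simp at this
    · refine ⟨0, M, ?_, h00⟩
      have e : SL2.sx (0 : F) = 1 := by
        ext i j; fin_cases i <;> fin_cases j <;> simp
      rw [e, one_mul]
  have hdet := SL2.el_det M'
  have e : M' = SL2.sy (SL2.el M' 1 0 / SL2.el M' 0 0) * dw (Units.mk0 _ h00) *
      SL2.sx (SL2.el M' 0 1 / SL2.el M' 0 0) := by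
    apply Subtype.ext
    rw [Matrix.SpecialLinearGroup.coe_mul, Matrix.SpecialLinearGroup.coe_mul, coe_dw]
    ext i j
    fin_cases i <;> fin_cases j <;>
      simp [SL2.el, Matrix.mul_apply, Fin.sum_univ_two] at h00 hdet ⊢ <;> field_simp
    linear_combination hdet
  refine ⟨s0, SL2.el M' 1 0 / SL2.el M' 0 0, SL2.el M' 0 1 / SL2.el M' 0 0, Units.mk0 _ h00, ?_⟩
  have h1 := congrArg (phi hC hr) (hM.symm.trans (hMM.trans (congrArg (SL2.sx s0 * ·) e)))
  simp only [map_mul, phi_sx, phi_sy, phi_dw, hg_single hC hi] at h1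
  rw [X, Y, Y, h1]
  simp only [X, Y, mul_assoc]

theorem cell_neg {S : ℕ → Prop} (hi : i < D.rank) (hS : S i) (t : F) {g : GL D.Idx F}
    (hg : Cell hC S g) : Cell hC S (Y hC i t * g) := by
  obtain ⟨a, ⟨ha, haM⟩, b, ⟨hb, hbM⟩, c, hc, u, ⟨hu, huM⟩, rfl⟩ := hg
  obtain ⟨p, hp, s, rfl⟩ := U_node hC hn hi ha
  obtain ⟨r, w, hw, rfl⟩ := V_node hC hn hi hb
  have hX : ∀ x : F, X hC i x ∈ MS hC F S := fun x => X_mem_MS hC hi hS x
  have hY : ∀ x : F, Y hC i x ∈ MS hC F S := fun x => Y_mem_MS hC hi hS x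
  have hpM : p ∈ MS hC F S := by simpa using mul_mem (s := MS hC F S) haM (inv_mem (hX s))
  have hwM : w ∈ MS hC F S := by simpa using mul_mem (s := MS hC F S) (inv_mem (hY r)) hbM
  obtain ⟨s0, l, m, d, e⟩ := rank_one_cell hC hi t s r
  obtain ⟨w', hw', hw'M, hwm⟩ : ∃ w' ∈ negS hC F (nv i), w' ∈ MS hC F S ∧
      X hC i m * w = w' * X hC i m :=
    ⟨_, X_conj_neg hC hn hi m hw, mul_mem (mul_mem (hX m) hwM) (inv_mem (hX m)), by group⟩
  refine ⟨_, ⟨mul_mem (posS_U hC hn hi (Y_conj_pos hC hn hi t hp)) (X_mem_U hC hi s0),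
      mul_mem (s := MS hC F S) (mul_mem (mul_mem (hY t) hpM) (inv_mem (hY t))) (hX s0)⟩, _,
    ⟨mul_mem (Y_mem_V hC hi l) (tor_conj_V hC _ (negS_V hC hn hi hw')),
      mul_mem (hY l) (tor_conj_MS hC (single1 i d) hw'M)⟩, single1 i d * c, fun j hj hnS => ?_, _,
    ⟨mul_mem (tor_conj_U' hC c (X_mem_U hC hi m)) hu, mul_mem ?_ huM⟩, ?_⟩
  · have : j ≠ i := fun e => hnS (e ▸ hS)
    simp [single1, this, hc j hj hnS]
  · have := tor_conj_MS hC c⁻¹ (hX m)
    rwa [← tor_inv, inv_inv] at this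
  · rw [← tor_mul]
    calc _ = (Y hC i t * p * (Y hC i t)⁻¹) * (Y hC i t * X hC i s * Y hC i r) * w * tor D c * u := by
          group
      _ = (Y hC i t * p * (Y hC i t)⁻¹) * X hC i s0 * Y hC i l * tor D (single1 i d) *
            (X hC i m * w) * tor D c * u := by rw [e]; group
      _ = _ := by rw [hwm]; group

theorem cell_all (S : ℕ → Prop) {g : GL D.Idx F} (hg : g ∈ MS hC F S) : Cell hC S g := by
  have h1 : Cell hC S (1 : GL D.Idx F) :=
    ⟨1, one_mem _, 1, one_mem _, 1, fun _ _ _ => rfl, 1, one_mem _, by simp [tor_one]⟩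
  refine Subgroup.closure_induction_left (p := fun x _ => Cell hC S x) h1 ?_ ?_ hg
  · rintro x ⟨i, hi, hS, t, rfl | rfl⟩ y - hy
    exacts [cell_pos hC hn hi hS t hy, cell_neg hC hn hi hS t hy]
  · rintro x ⟨i, hi, hS, t, rfl | rfl⟩ y - hy
    · rw [X, xg_inv hC]; exact cell_pos hC hn hi hS _ hy
    · rw [Y, xg_inv hC]; exact cell_neg hC hn hi hS _ hy

omit hn in
theorem group_le_MS : D.group F ≤ MS hC F fun _ => True := by
  have hnm : ∀ i < D.rank, ng hC (D.simple i) (1 : F) ∈ MS hC F fun _ => True := fun i hi =>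
    mul_mem (mul_mem (X_mem_MS hC hi trivial 1) (Y_mem_MS hC hi trivial _)) (X_mem_MS hC hi trivial 1)
  rw [group_eq_closure hC, Subgroup.closure_le]
  rintro g ⟨r, t, hr, rfl⟩
  revert t
  refine Root.simple_induction hC (P := fun r => ∀ t : F, xg hC r t ∈ MS hC F fun _ => True)
    (fun i hi t => X_mem_MS hC hi trivial t) (fun r hr i hi ih t => ?_) r hr
  obtain ⟨η, hη, he⟩ := Weyl.eta_field (F := F) (i := i) (r := r) hC
  have := mul_mem (mul_mem (hnm i hi) (ih (η⁻¹ * t))) (inv_mem (hnm i hi))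
  rwa [ng_conj_x hC hi hr, ← he, mul_inv_cancel_left₀ hη] at this

end Cfsg.Agent.ClassSquareGauss.Chev
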