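import Cfsg.Agent.Lib.ClassSquareGauss.Chev.Faithful
import Cfsg.Agent.Lib.ClassSquareGauss.Core

/-!
A regular split torus element times a regular unipotent element of its centraliser: the square of
its class is the whole group.
-/

set_option autoImplicit false
set_option linter.unusedSectionVars false

open scoped Matrix

namespace Cfsg.Agent.ClassSquareGauss.Chev

open Cfsg.Lie Cfsg.Agent.Chevalley Cfsg.Agent.Chevalley.Cert Cfsg.Agent.Chevalley.Group
  Cfsg.Agent.Chevalley.Table Cfsg.Agent.Chevalley.Unip Cfsg.Agent.Chevalley.Borel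
  Cfsg.Agent.Chevalley.Graded Cfsg.Agent.Chevalley.SingleBond Cfsg.Agent.Chevalley.Weight
  Cfsg.Agent.Classical.Thompson Cfsg.Agent.Classical.RegularUnipotentConj

variable {D : ChevalleyDatum} {F : Type*} [Field F] {T : Tab} {P : LevData}

/-- Conjugate in the group. -/
def Cj (x y : GL D.Idx F) : Prop := ∃ k ∈ D.group F, y = k * x * k⁻¹

theorem Cj.conj {x y k : GL D.Idx F} (h : Cj x y) (hk : k ∈ D.group F) : Cj x (k * y * k⁻¹) := by
  obtain ⟨a, ha, rfl⟩ := h
  exact ⟨k * a, mul_mem hk ha, by group⟩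

/-- A product of elementary matrices meeting in one way only is their sum. -/
theorem prod_single {n : ℕ} {ι : Type*} (p : ι → Fin n × Fin n) (z : ι → F) : ∀ {L : List ι},
    L.Pairwise (fun a b => (p a).2 ≠ (p b).1) →
    (L.map fun a => 1 + Matrix.single (p a).1 (p a).2 (z a)).prod =
      1 + (L.map fun a => Matrix.single (p a).1 (p a).2 (z a)).sum := by
  intro L
  induction L with
  | nil => simp
  | cons a L ih =>
    intro h
    have hp := List.pairwise_cons.1 h
    simp only [List.map_cons, List.prod_cons, List.sum_cons]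
    have h0 : Matrix.single (p a).1 (p a).2 (z a) *
        (L.map fun b => Matrix.single (p b).1 (p b).2 (z b)).sum = 0 := by
      rw [← List.sum_map_mul_left]
      refine List.sum_eq_zero fun x hx => ?_
      obtain ⟨b, hb, rfl⟩ := List.mem_map.1 hx
      exact Matrix.single_mul_single_of_ne _ _ _ _ (hp.1 b hb) _
    rw [ih hp.2, Matrix.add_mul, Matrix.one_mul, Matrix.mul_add, Matrix.mul_one, h0, add_zero]
    abel

theorem sum_single_apply {n m : ℕ} (p : Fin m → Fin n × Fin n) (z : Fin m → F) (i j : Fin n)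
    {L : List (Fin m)} (hL : L.Nodup) (hall : ∀ k, k ∈ L) :
    (L.map fun a => Matrix.single (p a).1 (p a).2 (z a)).sum i j =
      ∑ k, if (p k).1 = i ∧ (p k).2 = j then z k else 0 := by
  have key : ∀ L : List (Fin m), (L.map fun a => Matrix.single (p a).1 (p a).2 (z a)).sum i j =
      (L.map fun a => Matrix.single (p a).1 (p a).2 (z a) i j).sum := by
    intro L
    induction L with
    | nil => simp
    | cons a L ih => simp [Matrix.add_apply, ih]
  rw [key]
  have e : L.toFinset = Finset.univ := Finset.eq_univ_iff_forall.2 fun k => List.mem_toFinset.2 (hall k)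
  rw [← e, List.sum_toFinset _ hL]
  simp only [Matrix.single_apply]

variable (hC : Certified D T) (hP : LevOK D T P)
include hC hP

local notation "SLm" => Matrix.SpecialLinearGroup (Fin (P.m + 1)) F

omit hC hP in
theorem tor_pow (c : ℕ → Fˣ) : ∀ N : ℕ, (tor D c : GL D.Idx F) ^ N = tor D (c ^ N) := by
  intro N
  induction N with
  | zero => rw [pow_zero, pow_zero, tor_one]
  | succ N ih => rw [pow_succ, pow_succ, ih, tor_mul]

theorem hg_mem_grp (k : Fin P.m) (S : Fˣ) : tor D (single1 (P.nd k) S) ∈ P.grp hC F := by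
  rw [← hg_single hC (hP.nd_lt k)]
  have hX : ∀ t : F, xg hC (D.simple (P.nd k)) t ∈ P.grp hC F :=
    fun t => X_mem_MS hC (hP.nd_lt k) ⟨k, rfl⟩ t
  have hY : ∀ t : F, xg hC (D.neg (D.simple (P.nd k))) t ∈ P.grp hC F :=
    fun t => Y_mem_MS hC (hP.nd_lt k) ⟨k, rfl⟩ t
  exact mul_mem (mul_mem (mul_mem (hX _) (hY _)) (hX _)) (mul_mem (mul_mem (hX _) (hY _)) (hX _))

theorem tor_comm {s : ℕ → Fˣ} (hsJ : ∀ k : Fin P.m, torChar D s (D.simple (P.nd k)) = 1)
    {y : GL D.Idx F} (hy : y ∈ P.grp hC F) : tor D s * y = y * tor D s := by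
  induction hy using Subgroup.closure_induction with
  | mem g hg =>
    obtain ⟨i, hi, ⟨k, rfl⟩, t, rfl | rfl⟩ := hg
    · rw [tor_conj_x' hC s (hC.simple_lt hi), hsJ k, Units.val_one, one_mul]
    · rw [tor_conj_x' hC s (hC.neg_lt (hC.simple_lt hi)), torChar_neg hC s (hC.simple_lt hi), hsJ k,
        inv_one, Units.val_one, one_mul]
  | one => simp
  | mul a b _ _ iha ihb => rw [← mul_assoc, iha, mul_assoc, ihb, ← mul_assoc]
  | inv a _ ih =>
    calc tor D s * a⁻¹ = a⁻¹ * (a * tor D s) * a⁻¹ := by group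
      _ = a⁻¹ * (tor D s * a) * a⁻¹ := by rw [ih]
      _ = a⁻¹ * tor D s := by group

theorem grp_conj_pos {a y p : GL D.Idx F} (hy : y ∈ P.grp hC F) (c : ℕ → Fˣ)
    (ha : a = tor D c * y) (hp : p ∈ posS hC F P.dg) : a * p * a⁻¹ ∈ posS hC F P.dg := by
  have h1 := (zero_le_normalizer hC (a := P.dg) (fun r _ h => h) (grp_le_zero hC hP hy)).1
  have h2 := (Subgroup.mem_normalizer_iff.1 h1 p).1 hp
  have h3 := H_conj_RP hC (tor_mem_H hC c) h2
  rw [ha]
  simpa [mul_assoc] using h3

theorem grp_conj_neg {a y p : GL D.Idx F} (hy : y ∈ P.grp hC F) (c : ℕ → Fˣ)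
    (ha : a = tor D c * y) (hp : p ∈ negS hC F P.dg) : a * p * a⁻¹ ∈ negS hC F P.dg := by
  have h1 := (zero_le_normalizer hC (a := P.dg) (fun r _ h => h) (grp_le_zero hC hP hy)).2
  have h2 := (Subgroup.mem_normalizer_iff.1 h1 p).1 hp
  have h3 := H_conj_RP hC (tor_mem_H hC c) h2
  rw [ha]
  simpa [mul_assoc] using h3

/-- Conjugation of the Levi subgroup realises all of `GL`. -/
theorem conj_lift {s : ℕ → Fˣ} (hsJ : ∀ k : Fin P.m, torChar D s (D.simple (P.nd k)) = 1)
    (Q : GL (Fin (P.m + 1)) F) : ∃ k ∈ D.group F, k * tor D s * k⁻¹ = tor D s ∧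
      ∀ y ∈ P.grp hC F, ∀ A : SLm, P.Act D y A → k * y * k⁻¹ ∈ P.grp hC F ∧
        ∃ A' : SLm, P.Act D (k * y * k⁻¹) A' ∧
          A'.1 = (Q : Matrix (Fin (P.m + 1)) (Fin (P.m + 1)) F) * A.1 *
            ((Q⁻¹ : GL (Fin (P.m + 1)) F) : Matrix (Fin (P.m + 1)) (Fin (P.m + 1)) F) := by
  obtain ⟨hf, hdet⟩ := hP.fdet
  rcases hdet with hm | ⟨he, hrest⟩
  · refine ⟨1, one_mem _, by group, fun y hy A hA => ⟨by simpa using hy, A, by simpa using hA, ?_⟩⟩
    haveI : Subsingleton (Fin (P.m + 1)) := Fin.subsingleton_iff_le_one.2 (by omega)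
    have h1 : A.1 = 1 := by
      ext i j
      have h0 := Matrix.det_eq_elem_of_subsingleton A.1 i
      rw [A.2] at h0
      rw [Subsingleton.elim j i, Matrix.one_apply_eq]
      exact h0.symm
    rw [h1, Matrix.mul_one, Units.mul_inv]
  obtain ⟨e, he'⟩ : ∃ e : ℤ, e = D.cartan P.f (P.b 0) - D.cartan P.f (P.b (Fin.last P.m)) := ⟨_, rfl⟩
  rw [← he'] at he
  have hee : e * e = 1 := by
    rcases Int.natAbs_eq e with h | h <;> rw [h, he] <;> norm_num
  obtain ⟨d, hd⟩ : ∃ d : Fˣ, d = Matrix.GeneralLinearGroup.det Q := ⟨_, rfl⟩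
  obtain ⟨u, hu⟩ : ∃ u : Fˣ, u = d ^ e := ⟨_, rfl⟩
  let δ : Fin (P.m + 1) → Fˣ := fun j => if j = 0 then d else 1
  have hχ : ∀ j, torChar D (single1 P.f u) (P.b j) = δ j * u ^ D.cartan P.f (P.b (Fin.last P.m)) := by
    intro j
    rw [torChar_single hf]
    simp only [δ]
    split_ifs with hj
    · subst hj
      have e1 : d = u ^ e := by rw [hu, ← zpow_mul, hee, zpow_one]
      rw [e1, ← zpow_add]
      congr 1
      omega
    · rw [hrest j hj, one_mul]
  let Dm : Matrix (Fin (P.m + 1)) (Fin (P.m + 1)) F := Matrix.diagonal fun j => (δ j : F)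
  let Di : Matrix (Fin (P.m + 1)) (Fin (P.m + 1)) F := Matrix.diagonal fun j => ((δ j)⁻¹ : Fˣ)
  have hDD : Dm * Di = 1 := by
    simp only [Dm, Di, Matrix.diagonal_mul_diagonal, ← Units.val_mul, mul_inv_cancel, Units.val_one]
    exact Matrix.diagonal_one
  have hDdet : Dm.det = (d : F) := by
    simp only [Dm, Matrix.det_diagonal, δ]
    rw [Finset.prod_eq_single 0 (fun j _ hj => by simp [hj]) (by simp)]
    simp
  have hDidet : Di.det = (d : F)⁻¹ := by
    have h := congrArg Matrix.det hDD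
    rw [Matrix.det_mul, hDdet, Matrix.det_one] at h
    exact eq_inv_of_mul_eq_one_right h
  let Q1 : SLm := ⟨(Q : Matrix (Fin (P.m + 1)) (Fin (P.m + 1)) F) * Di, by
    rw [Matrix.det_mul, hDidet, hd, ← Matrix.GeneralLinearGroup.val_det_apply, mul_inv_cancel₀ (Units.ne_zero _)]⟩
  obtain ⟨g, hg, hgA⟩ := exists_elem hC hP Q1
  refine ⟨g * tor D (single1 P.f u), mul_mem (MS_le_group hC _ hg) (H_le_group hC (tor_mem_H hC _)), ?_,
    fun y hy A hA => ?_⟩
  · have h1 := tor_comm hC hP hsJ hg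
    calc g * tor D (single1 P.f u) * tor D s * (g * tor D (single1 P.f u))⁻¹
        = g * (tor D (single1 P.f u) * tor D s) * (tor D (single1 P.f u))⁻¹ * g⁻¹ := by group
      _ = g * (tor D s * tor D (single1 P.f u)) * (tor D (single1 P.f u))⁻¹ * g⁻¹ := by
          rw [tor_mul, tor_mul, mul_comm s]
      _ = (g * tor D s) * g⁻¹ := by group
      _ = _ := by rw [← h1]; group
  have hty := tor_conj_MS hC (single1 P.f u) hy
  let A1 : SLm := ⟨Dm * A.1 * Di, by rw [Matrix.det_mul, Matrix.det_mul, A.2, hDdet, hDidet, mul_one,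
    mul_inv_cancel₀ d.ne_zero]⟩
  have hA1 : P.Act D (tor D (single1 P.f u) * y * (tor D (single1 P.f u))⁻¹) A1 := by
    refine tor_act hC hP hA fun i j => ?_
    simp only [A1, Dm, Di, Matrix.mul_diagonal, Matrix.diagonal_mul, hχ, Units.val_mul,
      Units.val_inv_eq_inv_val]
    field_simp
  refine ⟨?_, Q1 * A1 * Q1⁻¹, ?_, ?_⟩
  · have := mul_mem (mul_mem hg hty) (inv_mem hg)
    simpa [mul_assoc] using this
  · have := act_mul hC hP (act_mul hC hP hgA hA1) (act_inv hC hP hgA)
    simpa [mul_assoc] using this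
  · have hQi : (Q1⁻¹ : SLm).1 = Dm * ((Q⁻¹ : GL (Fin (P.m + 1)) F) : Matrix (Fin (P.m + 1)) (Fin (P.m + 1)) F) := by
      refine left_inv_eq_right_inv (a := Q1.1) ?_ ?_
      · rw [← Matrix.SpecialLinearGroup.coe_mul, inv_mul_cancel, Matrix.SpecialLinearGroup.coe_one]
      · show (Q : Matrix _ _ F) * Di * (Dm * _) = 1
        rw [Matrix.mul_assoc, ← Matrix.mul_assoc Di, mul_eq_one_comm.1 hDD, Matrix.one_mul, Units.mul_inv]
    rw [Matrix.SpecialLinearGroup.coe_mul, Matrix.SpecialLinearGroup.coe_mul, hQi]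
    simp only [Q1, A1, Matrix.mul_assoc]
    simp only [← Matrix.mul_assoc Di Dm, mul_eq_one_comm.1 hDD, Matrix.one_mul]

variable [Fintype F] {nv : ℕ → ℕ → ℤ} (hn : NodeOK D T nv) {s : ℕ → Fˣ}
  (hs : ∀ r < D.nroots, 0 < lin D P.dg r → torChar D s r ≠ 1)
  (hsJ : ∀ k : Fin P.m, torChar D s (D.simple (P.nd k)) = 1)
include hn hs hsJ

/-- The elements of the class in `tor s` times the Levi subgroup have no fixed points. -/
theorem fixfree {y : GL D.Idx F} (hy : y ∈ P.grp hC F) {A : SLm} (hA : P.Act D y A)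
    (hs' : Sim A.1 (jord F (P.m + 1))) :
    (∀ v ∈ posS hC F P.dg, tor D s * y * v = v * (tor D s * y) → v = 1) ∧
      ∀ v ∈ negS hC F P.dg, tor D s * y * v = v * (tor D s * y) → v = 1 := by
  obtain ⟨p, hp⟩ := CharP.exists F
  haveI := hp
  haveI : Fact p.Prime := ⟨CharP.char_is_prime F p⟩
  obtain ⟨e, -, he⟩ := FiniteField.card F p
  have hq : 2 ≤ Fintype.card F := Fintype.one_lt_card
  obtain ⟨N, hN⟩ : ∃ N, N = Fintype.card F ^ (P.m + 1) := ⟨_, rfl⟩
  have hAN : A ^ N = 1 := by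
    obtain ⟨Pm, Qm, hPQ, hAe⟩ := hs'
    have hnil : (A.1 - 1) ^ (P.m + 1) = 0 := by
      have e1 : A.1 - 1 = Pm * (jord F (P.m + 1) - 1) * Qm := by
        rw [Matrix.mul_sub, Matrix.sub_mul, Matrix.mul_one, hPQ, ← hAe]
      have key : ∀ k, (Pm * (jord F (P.m + 1) - 1) * Qm) ^ k = Pm * (jord F (P.m + 1) - 1) ^ k * Qm := by
        intro k
        induction k with
        | zero => simp [hPQ]
        | succ k ih =>
          rw [pow_succ, ih, pow_succ]
          simp only [Matrix.mul_assoc]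
          rw [← Matrix.mul_assoc Qm Pm, mul_eq_one_comm.1 hPQ, Matrix.one_mul]
      rw [e1, key, jord_nil, Matrix.mul_zero, Matrix.zero_mul]
    refine Subtype.ext ?_
    rw [Matrix.SpecialLinearGroup.coe_pow, Matrix.SpecialLinearGroup.coe_one]
    haveI : CharP (Matrix (Fin (P.m + 1)) (Fin (P.m + 1)) F) p := inferInstance
    have hN' : N = p ^ ((e : ℕ) * (P.m + 1)) := by rw [hN, he, ← pow_mul]
    have h1 : (A.1 - 1) ^ N = 0 := by
      refine pow_eq_zero_of_le ?_ hnil
      rw [hN]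
      exact (Nat.lt_pow_self (n := P.m + 1) hq).le
    rw [hN', sub_pow_char_pow_of_commute _ _ (Commute.one_right _), one_pow, sub_eq_zero] at h1
    rw [hN']
    exact h1
  have hpow : ∀ j : ℕ, P.Act D (y ^ j) (A ^ j) := by
    intro j
    induction j with
    | zero => rw [pow_zero, pow_zero]; exact act_one hC hP
    | succ j ih => rw [pow_succ, pow_succ]; exact act_mul hC hP ih hA
  have hyN : y ^ N = 1 := act_inj hC hP hn (pow_mem hy N) (hAN ▸ hpow N)
  have hx : (tor D s * y) ^ N = tor D s := by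
    rw [(show Commute (tor D s) y from tor_comm hC hP hsJ hy).mul_pow, hyN, mul_one, tor_pow]
    refine dg_congr fun r _ => ?_
    have : torChar D (s ^ N) r = torChar D s r ^ N := by
      simp only [torChar, Pi.pow_apply, ← Finset.prod_pow]
      exact Finset.prod_congr rfl fun i _ => by rw [← zpow_natCast, ← zpow_natCast, ← zpow_mul, ← zpow_mul, mul_comm]
    rw [this]
    apply Units.ext
    rw [Units.val_pow_eq_pow_val, hN, FiniteField.pow_card_pow]
  have key : ∀ v : GL D.Idx F, tor D s * y * v = v * (tor D s * y) → tor D s * v = v * tor D s := by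
    intro v h
    have := (show Commute (tor D s * y) v from h).pow_left N
    rwa [hx] at this
  exact ⟨fun v hv h => fix_posS hC hP.sep hs hv (key v h),
    fun v hv h => fix_negS hC hP.sep hs hv (key v h)⟩

theorem exists_class (hF : 9 ≤ Fintype.card F) {par : ℕ → ℕ} (hT : TreeOK D par) (hrk : 1 ≤ D.rank)
    {L0 : List ℕ} (hL0 : ∀ i ∈ L0, i < D.rank)
    (hrev : ∀ r < D.nroots, torChar D s (wL D L0.reverse r) = (torChar D s r)⁻¹)
    (hflip : ∀ k : Fin P.m, wL D L0 (D.neg (D.simple (P.nd k))) = D.simple (P.nd k)) :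
    ∃ x ∈ D.group F, ∀ g ∈ D.group F, ∃ a b, Cj x a ∧ Cj x b ∧ g = a * b := by
  classical
  -- the unipotent part
  obtain ⟨y0, hy0def⟩ : ∃ y0 : GL D.Idx F,
      y0 = ((List.finRange P.m).map fun k => Y hC (P.nd k) (1 : F)).prod := ⟨_, rfl⟩
  have hy0 : y0 ∈ P.grp hC F := hy0def ▸ list_prod_mem fun g hg => by
    obtain ⟨k, -, rfl⟩ := List.mem_map.1 hg
    exact Y_mem_MS hC (hP.nd_lt k) ⟨k, rfl⟩ _
  -- products along the path
  have path : ∀ (p : Fin P.m → Fin (P.m + 1) × Fin (P.m + 1)) (g : Fin P.m → GL D.Idx F) (z : Fin P.m → F),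
      (∀ k, ∃ A : SLm, P.Act D (g k) A ∧ A.1 = 1 + Matrix.single (p k).1 (p k).2 (z k)) →
      ∀ L : List (Fin P.m), ∃ A : SLm, P.Act D (L.map g).prod A ∧
        A.1 = (L.map fun a => 1 + Matrix.single (p a).1 (p a).2 (z a)).prod := by
    intro p g z h L
    induction L with
    | nil => exact ⟨1, act_one hC hP, by simp⟩
    | cons a L ih =>
      obtain ⟨A, hA, hA'⟩ := ih
      obtain ⟨B, hB, hB'⟩ := h a
      refine ⟨B * A, by simpa using act_mul hC hP hB hA, ?_⟩
      rw [Matrix.SpecialLinearGroup.coe_mul, hB', hA', List.map_cons, List.prod_cons]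
  obtain ⟨A0, hA0, hA0'⟩ : ∃ A : SLm, P.Act D y0 A ∧ A.1 = jord F (P.m + 1) := by
    obtain ⟨A, hA, hA'⟩ := path (fun k => (k.succ, k.castSucc)) (fun k => Y hC (P.nd k) (1 : F))
      (fun _ => 1) (fun k => by
        obtain ⟨e, he, hr, hx, hy, hσ⟩ := hP.dn k
        have h2 := (hP.ents_ok e he).2.1
        refine ⟨Matrix.SpecialLinearGroup.transvection h2 (1 : F), ?_, ?_⟩
        · rw [Y, ← hr]
          exact ent_act hC hP he _ (by rw [Matrix.SpecialLinearGroup.transvection_coe, hσ]; simp)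
        · rw [Matrix.SpecialLinearGroup.transvection_coe, hx, hy]) (List.finRange P.m)
    refine ⟨A, hy0def ▸ hA, ?_⟩
    rw [hA', prod_single]
    · rw [jord]
      congr 1
      ext i j
      rw [sum_single_apply (fun k : Fin P.m => (k.succ, k.castSucc)) (fun _ => 1) i j
        (List.nodup_finRange _) List.mem_finRange]
      simp only [shift, Matrix.transpose_apply, Matrix.of_apply]
      by_cases hij : (j : ℕ) + 1 = i
      · rw [Finset.sum_eq_single ⟨j, by omega⟩]
        · simp [Fin.ext_iff, hij]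
        · intro k _ hk
          rw [if_neg]
          rintro ⟨-, h⟩
          exact hk (Fin.ext (by simpa [Fin.ext_iff] using h))
        · simp
      · rw [if_neg hij, Finset.sum_eq_zero]
        intro k _
        rw [if_neg]
        rintro ⟨h1, h2⟩
        simp only [Fin.ext_iff, Fin.val_succ, Fin.val_castSucc] at h1 h2
        omega
    · refine (List.pairwise_lt_finRange _).imp fun {a b} hab h => ?_
      simp only [Fin.ext_iff, Fin.val_succ, Fin.val_castSucc] at h
      have : (a : ℕ) < b := hab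
      omega
  obtain ⟨x, hx⟩ : ∃ x, x = tor D s * y0 := ⟨_, rfl⟩
  have hsG : tor D s ∈ D.group F := H_le_group hC (tor_mem_H hC s)
  -- the class
  have hcls : ∀ y ∈ P.grp hC F, ∀ A : SLm, P.Act D y A → Sim A.1 (jord F (P.m + 1)) →
      Cj x (tor D s * y) := by
    intro y hy A hA hsim
    obtain ⟨Pm, Qm, hPQ, hAe⟩ := hsim
    obtain ⟨k, hk, hks, hk'⟩ := conj_lift hC hP hsJ ⟨Pm, Qm, hPQ, mul_eq_one_comm.1 hPQ⟩
    obtain ⟨hkM, A', hA', hA''⟩ := hk' y0 hy0 A0 hA0
    refine ⟨k, hk, ?_⟩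
    have e : k * y0 * k⁻¹ = y := by
      refine (mul_inv_eq_one.1 ?_)
      refine act_inj hC hP hn (mul_mem hkM (inv_mem hy)) ?_
      have := act_mul hC hP hA' (act_inv hC hP hA)
      have hAA : A' = A := Subtype.ext (by rw [hA'', hAe, hA0']; rfl)
      rwa [hAA, mul_inv_cancel] at this
    rw [hx]
    calc tor D s * y = (k * tor D s * k⁻¹) * (k * y0 * k⁻¹) := by rw [hks, e]
      _ = _ := by group
  refine ⟨x, hx ▸ mul_mem hsG (MS_le_group hC _ hy0), fun g hg => ?_⟩
  by_cases h1 : g = 1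
  · -- reality
    subst h1
    obtain ⟨n, hn0⟩ : ∃ n, n = nL hC F L0 := ⟨_, rfl⟩
    have hnG : n ∈ D.group F := hn0 ▸ N_le_group hC (nL_mem_N hC hL0)
    obtain ⟨c', hc', hc''⟩ := nL_conj_tor (F := F) hC hL0 s
    have hns : n * tor D s * n⁻¹ = (tor D s)⁻¹ := by
      rw [hn0, hc', tor_inv]
      exact dg_congr fun r hr => by rw [hc'' r hr, hrev r hr, torChar_inv]
    choose η hη0 hη using fun k : Fin P.m =>
      nL_conj_x (F := F) hC hL0 (r := D.neg (D.simple (P.nd k))) (hC.neg_lt (hC.simple_lt (hP.nd_lt k)))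
    obtain ⟨A, hA, hA'⟩ := path (fun k => (k.castSucc, k.succ))
      (fun k => X hC (P.nd k) (-(η k))) (fun k => -(η k)) (fun k => by
        obtain ⟨e, he, hr, hx, hy, hσ⟩ := hP.up k
        have h2 := (hP.ents_ok e he).2.1
        refine ⟨Matrix.SpecialLinearGroup.transvection h2 (-(η k)), ?_, ?_⟩
        · rw [X, ← hr]
          exact ent_act hC hP he _ (by rw [Matrix.SpecialLinearGroup.transvection_coe, hσ]; simp)
        · rw [Matrix.SpecialLinearGroup.transvection_coe, hx, hy]) (List.finRange P.m).reverse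
    obtain ⟨y1, hy1def⟩ : ∃ y1 : GL D.Idx F,
        y1 = ((List.finRange P.m).reverse.map fun k => X hC (P.nd k) (-(η k))).prod := ⟨_, rfl⟩
    have hy1 : y1 ∈ P.grp hC F := hy1def ▸ list_prod_mem fun g hg => by
      obtain ⟨k, -, rfl⟩ := List.mem_map.1 hg
      exact X_mem_MS hC (hP.nd_lt k) ⟨k, rfl⟩ _
    have hny : n * y0⁻¹ * n⁻¹ = y1 := by
      rw [hy0def, hy1def, List.prod_inv_reverse]
      simp only [← List.map_reverse, List.map_map]
      generalize (List.finRange P.m).reverse = L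
      induction L with
      | nil => simp
      | cons k L ih =>
        simp only [List.map_cons, List.prod_cons, Function.comp_def]
        rw [show n * ((Y hC (P.nd k) (1 : F))⁻¹ * (L.map fun k => (Y hC (P.nd k) (1 : F))⁻¹).prod) * n⁻¹ =
          (n * (Y hC (P.nd k) (1 : F))⁻¹ * n⁻¹) * (n * (L.map fun k => (Y hC (P.nd k) (1 : F))⁻¹).prod * n⁻¹)
          by group]
        congr 1
        rw [Y, xg_inv hC, hn0, hη k, hflip k, mul_neg, mul_one]
    have hsim : Sim A.1 (jord F (P.m + 1)) := by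
      refine Sim.trans ?_ (jord_transpose_sim (P.m + 1))
      let dv : Fin (P.m + 1) → F := fun j => ∏ k ∈ Finset.univ.filter (fun k : Fin P.m => (j : ℕ) ≤ k), -(η k)
      have hdv : ∀ j, dv j ≠ 0 := fun j => Finset.prod_ne_zero_iff.2 fun k _ => neg_ne_zero.2 (hη0 k)
      refine ⟨Matrix.diagonal dv, Matrix.diagonal fun j => (dv j)⁻¹, ?_, ?_⟩
      · rw [Matrix.diagonal_mul_diagonal]
        simp [hdv]
      rw [hA', prod_single]
      · ext i j
        rw [Matrix.mul_diagonal, Matrix.diagonal_mul, jord, Matrix.transpose_add, Matrix.transpose_one,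
          Matrix.transpose_transpose, Matrix.add_apply, Matrix.add_apply,
          sum_single_apply (fun k : Fin P.m => (k.castSucc, k.succ)) (fun k => -(η k)) i j
            (List.nodup_reverse.2 (List.nodup_finRange _)) fun k => List.mem_reverse.2 (List.mem_finRange k)]
        by_cases hij : i = j
        · subst hij
          rw [Matrix.one_apply_eq, Finset.sum_eq_zero, show shift F (P.m + 1) i i = 0 by simp [shift]]
          · have := hdv i; field_simp
          · intro k _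
            rw [if_neg]
            rintro ⟨h1, h2⟩
            simp only [Fin.ext_iff, Fin.val_succ, Fin.val_castSucc] at h1 h2
            omega
        · rw [Matrix.one_apply_ne hij, zero_add, zero_add]
          by_cases hs1 : (i : ℕ) + 1 = j
          · rw [show shift F (P.m + 1) i j = 1 by simp [shift, hs1],
              Finset.sum_eq_single ⟨i, by omega⟩]
            · rw [if_pos ⟨Fin.ext (by simp), Fin.ext (by simp [hs1])⟩]
              have hins : Finset.univ.filter (fun k : Fin P.m => (i : ℕ) ≤ k) =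
                  insert (⟨i, by omega⟩ : Fin P.m) (Finset.univ.filter fun k : Fin P.m => (j : ℕ) ≤ k) := by
                ext k; simp [Fin.ext_iff]; omega
              have hnm : (⟨i, by omega⟩ : Fin P.m) ∉ Finset.univ.filter fun k : Fin P.m => (j : ℕ) ≤ k := by
                simp; omega
              simp only [dv]
              rw [hins, Finset.prod_insert hnm]
              have := hdv j
              simp only [dv] at this
              field_simp
            · intro k _ hk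
              rw [if_neg]
              rintro ⟨h, -⟩
              exact hk (Fin.ext (by simpa [Fin.ext_iff] using h))
            · simp
          · rw [show shift F (P.m + 1) i j = 0 by simp [shift, hs1], Finset.sum_eq_zero]
            · simp
            · intro k _
              rw [if_neg]
              rintro ⟨h1, h2⟩
              simp only [Fin.ext_iff, Fin.val_succ, Fin.val_castSucc] at h1 h2
              omega
      · refine List.pairwise_reverse.2 ((List.pairwise_lt_finRange _).imp fun {a b} hab h => ?_)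
        simp only [Fin.ext_iff, Fin.val_succ, Fin.val_castSucc] at h
        have : (a : ℕ) < b := hab
        omega
    obtain ⟨k, hk, hk'⟩ := hcls y1 hy1 A (hy1def ▸ hA) hsim
    refine ⟨x, x⁻¹, ⟨1, one_mem _, by group⟩, ⟨n⁻¹ * k, mul_mem (inv_mem hnG) hk, ?_⟩, by group⟩
    have hns' : n * (tor D s)⁻¹ * n⁻¹ = tor D s := by
      calc _ = (n * tor D s * n⁻¹)⁻¹ := by group
        _ = _ := by rw [hns, inv_inv]
    have e : n * x⁻¹ * n⁻¹ = tor D s * y1 := by
      calc n * x⁻¹ * n⁻¹ = (n * y0⁻¹ * n⁻¹) * (n * (tor D s)⁻¹ * n⁻¹) := by rw [hx]; group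
        _ = y1 * tor D s := by rw [hny, hns']
        _ = _ := (tor_comm hC hP hsJ hy1).symm
    calc x⁻¹ = n⁻¹ * (n * x⁻¹ * n⁻¹) * n := by group
      _ = n⁻¹ * (k * x * k⁻¹) * n := by rw [e, hk']
      _ = _ := by group
  -- a decomposition with the torus part of the square
  obtain ⟨ρ, hρ⟩ := IsCyclic.exists_ofOrder_eq_natCard (α := Fˣ)
  have hρ2 : ρ * ρ ≠ 1 := by
    intro h
    have h2 : orderOf ρ ∣ 2 := orderOf_dvd_of_pow_eq_one (by rw [pow_two]; exact h)
    rw [hρ, Nat.card_eq_fintype_card, Fintype.card_units] at h2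
    have := Nat.le_of_dvd (by norm_num) h2
    omega
  obtain ⟨w, hwM, hwA, hwt⟩ : ∃ w : ℕ → Fˣ, tor D w ∈ P.grp hC F ∧
      (∀ A : SLm, P.Act D (tor D w) A → P.m ≠ 0 → ∀ a : F, ∀ B C : SLm,
        Matrix.SpecialLinearGroup.toGL B ∈ UT (fun j => -P.wt j) 1 zero_le_one →
        Matrix.SpecialLinearGroup.toGL C ∈ UT P.wt 1 zero_le_one → (B * A * C).1 ≠ a • 1) ∧ True := by
    by_cases hm : P.m = 0
    · exact ⟨1, by rw [tor_one]; exact one_mem _, fun _ _ h => absurd hm h, trivial⟩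
    refine ⟨single1 (P.nd ⟨0, by omega⟩) ρ, hg_mem_grp hC hP _ _, fun A hA _ a B C hB hC' hscal => ?_, trivial⟩
    obtain ⟨A', hA', hA''⟩ := tor_sl hC hP _ (hg_mem_grp hC hP ⟨0, by omega⟩ ρ)
    obtain rfl := act_unique hC hP hA hA'
    have hAC : (A * C).1 = a • (B⁻¹ : SLm).1 := by
      have h2 := congrArg (fun M => (B⁻¹ : SLm).1 * M) hscal
      simp only [← Matrix.SpecialLinearGroup.coe_mul, Matrix.mul_smul, Matrix.mul_one] at h2
      rwa [mul_assoc B, inv_mul_cancel_left] at h2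
    have hd : ∀ i, (torChar D (single1 (P.nd ⟨0, by omega⟩) ρ) (P.b i) : F) = a := by
      intro i
      have h2 := congrFun (congrFun hAC i) i
      rw [Matrix.SpecialLinearGroup.coe_mul, Matrix.mul_apply, Finset.sum_eq_single i
        (fun l _ hl => by rw [hA'', if_neg (Ne.symm hl), zero_mul]) (by simp), hA'', if_pos rfl,
        ut_diag hC' i, mul_one, Matrix.smul_apply, ut_diag (w := fun j => -P.wt j) ?_ i, smul_eq_mul, mul_one] at h2
      · exact h2
      · rw [map_inv]; exact inv_mem hB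
    have h0 := (hd (Fin.castSucc ⟨0, by omega⟩)).trans (hd (Fin.succ ⟨0, by omega⟩)).symm
    rw [torChar_single (hP.nd_lt _), torChar_single (hP.nd_lt _), Units.val_inj, hP.wts, hP.wts,
      if_pos rfl, if_neg (Fin.castSucc_lt_succ).ne, if_pos rfl, if_neg (Fin.castSucc_lt_succ).ne'] at h0
    simp at h0
    exact hρ2 (mul_eq_one_iff_eq_inv.2 h0)
  obtain ⟨v, hv, u, hu, k, hk, hrel⟩ := prescribe hC hn hT hF hrk hg h1 (s * s * w)
  obtain ⟨vP, hvP, vM, hvM, rfl⟩ := V_split_deg hC hP.sep hv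
  obtain ⟨uP, huP, uM, huM, rfl⟩ := U_split_deg hC hP.sep hu
  have hvM' := negZ_le_grp hC hP hvM
  have huM' := posZ_le_grp hC hP huM
  obtain ⟨l, hl⟩ : ∃ l, l = vM * tor D w * uM := ⟨_, rfl⟩
  have hlM : l ∈ P.grp hC F := hl ▸ mul_mem (mul_mem hvM' hwM) huM'
  obtain ⟨p', hp', hup⟩ : ∃ p' ∈ posS hC F P.dg, uP * uM = uM * p' := by
    refine ⟨uM⁻¹ * uP * uM, ?_, by group⟩
    have := grp_conj_pos hC hP (a := uM⁻¹) (inv_mem huM') 1 (by rw [tor_one, one_mul]) huP
    rwa [inv_inv] at this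
  -- factor the Levi part
  obtain ⟨Al, hAl⟩ := exists_act hC hP hlM
  obtain ⟨L1, L2, hL1, hL2, hL12⟩ : ∃ L1 L2 : SLm, Sim L1.1 (jord F (P.m + 1)) ∧
      Sim L2.1 (jord F (P.m + 1)) ∧ Al = L1 * L2 := by
    by_cases hm : P.m = 0
    · haveI : Subsingleton (Fin (P.m + 1)) := Fin.subsingleton_iff_le_one.2 (by omega)
      haveI : Subsingleton SLm := ⟨fun A B => Subtype.ext (Matrix.ext fun i j => by
        have h2 := Matrix.det_eq_elem_of_subsingleton A.1 i
        have h3 := Matrix.det_eq_elem_of_subsingleton B.1 i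
        rw [A.2] at h2; rw [B.2] at h3
        rw [Subsingleton.elim j i, ← h2, ← h3])⟩
      let J : SLm := ⟨jord F (P.m + 1), jord_det _⟩
      exact ⟨J, J, Sim.refl _, Sim.refl _, Subsingleton.elim _ _⟩
    obtain ⟨Av, hAv, hAv'⟩ := act_neg hC hP hvM
    obtain ⟨Aw, hAw, -⟩ := tor_sl hC hP w hwM
    obtain ⟨Au, hAu, hAu'⟩ := act_pos hC hP huM
    have hAe : Al = Av * Aw * Au :=
      act_unique hC hP hAl (hl ▸ act_mul hC hP (act_mul hC hP hAv hAw) hAu)
    have hns : ∀ a : F, Al.1 ≠ a • 1 := fun a => hAe ▸ hwA Aw hAw hm a Av Au hAv' hAu'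
    have hK : 4 ≤ Cardinal.mk F := by
      rw [Cardinal.mk_fintype]; exact_mod_cast (show 4 ≤ Fintype.card F by omega)
    obtain ⟨L, U, B', hBB, hL, hU, hLU⟩ := splits_jord hK (γ := (ρ : F)) ρ.ne_zero
      (fun h => hρ2 (by rw [Units.val_eq_one.1 h, one_mul])) (by omega : 2 ≤ P.m + 1) Al.1 Al.2 hns
    have hU' : Sim U (jord F (P.m + 1)) := by
      refine hU.trans ?_
      rw [← Matrix.inv_eq_right_inv hBB]
      exact jord_inv_sim _
    have hdet : ∀ M : Matrix (Fin (P.m + 1)) (Fin (P.m + 1)) F, Sim M (jord F (P.m + 1)) → M.det = 1 := by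
      rintro M ⟨Pm, Qm, hPQ, rfl⟩
      rw [Matrix.det_mul, Matrix.det_mul, jord_det, mul_one, ← Matrix.det_mul, hPQ, Matrix.det_one]
    exact ⟨⟨L, hdet L hL⟩, ⟨U, hdet U hU'⟩, hL, hU', Subtype.ext hLU⟩
  obtain ⟨y1, hy1, hyA1⟩ := exists_elem hC hP L1
  obtain ⟨y2, hy2, hyA2⟩ := exists_elem hC hP L2
  have hly : l = y1 * y2 := by
    refine mul_inv_eq_one.1 (act_inj hC hP hn (mul_mem hlM (inv_mem (mul_mem hy1 hy2))) ?_)
    have := act_mul hC hP hAl (act_inv hC hP (act_mul hC hP hyA1 hyA2))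
    rwa [hL12, mul_inv_cancel] at this
  obtain ⟨w1, hw1, hw1e⟩ := twist_mem (negS hC F P.dg) (x := tor D s * y1)
    (fun v hv => grp_conj_neg hC hP hy1 s rfl hv) (fixfree hC hP hn hs hsJ hy1 hyA1 hL1).2 hvP
  have hp2 : tor D s * y2 * p' * (tor D s * y2)⁻¹ ∈ posS hC F P.dg := grp_conj_pos hC hP hy2 s rfl hp'
  obtain ⟨w2, hw2, hw2e⟩ := twist_mem (posS hC F P.dg) (x := tor D s * y2)
    (fun v hv => grp_conj_pos hC hP hy2 s rfl hv) (fixfree hC hP hn hs hsJ hy2 hyA2 hL2).1 hp2
  have hC1 : Cj x (w1 * (tor D s * y1) * w1⁻¹) :=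
    (hcls y1 hy1 L1 hyA1 hL1).conj (RP_le_group hC _ hw1)
  have hC2 : Cj x (w2 * (tor D s * y2) * w2⁻¹) :=
    (hcls y2 hy2 L2 hyA2 hL2).conj (RP_le_group hC _ hw2)
  refine ⟨_, _, hC1.conj (inv_mem hk), hC2.conj (inv_mem hk), ?_⟩
  have e1 : vM * tor D (s * s * w) * uM = tor D (s * s) * l := by
    rw [← tor_mul, hl]
    have h2 : vM * tor D (s * s) = tor D (s * s) * vM := by
      rw [← tor_mul, ← mul_assoc, ← tor_comm hC hP hsJ hvM', mul_assoc (tor D s) vM,
        ← tor_comm hC hP hsJ hvM', ← mul_assoc]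
    calc vM * (tor D (s * s) * tor D w) * uM = (vM * tor D (s * s)) * tor D w * uM := by group
      _ = _ := by rw [h2]; group
  have e2 : tor D (s * s) * l = (tor D s * y1) * (tor D s * y2) := by
    rw [hly, ← tor_mul]
    calc tor D s * tor D s * (y1 * y2) = tor D s * (tor D s * y1) * y2 := by group
      _ = tor D s * (y1 * tor D s) * y2 := by rw [tor_comm hC hP hsJ hy1]
      _ = _ := by group
  have e3 : vP * vM * tor D (s * s * w) * (uP * uM) =
      (vP * (tor D s * y1)) * ((tor D s * y2 * p' * (tor D s * y2)⁻¹) * (tor D s * y2)) := by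
    calc _ = vP * (vM * tor D (s * s * w) * uM) * p' := by rw [hup]; group
      _ = _ := by rw [e1, e2]; group
  rw [e3, hw1e, hw2e] at hrel
  calc g = k⁻¹ * (k * g * k⁻¹) * k := by group
    _ = _ := by rw [← hrel]; group

end Cfsg.Agent.ClassSquareGauss.Chev
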