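import Cfsg.Agent.Lib.ClassSquareGauss.Chev.Block

/-!
The block is faithful.
-/

set_option autoImplicit false
set_option linter.unusedSectionVars false

open scoped Matrix

namespace Cfsg.Agent.ClassSquareGauss.Chev

open Cfsg.Lie Cfsg.Agent.Chevalley Cfsg.Agent.Chevalley.Cert Cfsg.Agent.Chevalley.Group
  Cfsg.Agent.Chevalley.Table Cfsg.Agent.Chevalley.Unip Cfsg.Agent.Chevalley.Borel
  Cfsg.Agent.Chevalley.Graded Cfsg.Agent.Chevalley.SingleBond Cfsg.Agent.Chevalley.Weight

variable {D : ChevalleyDatum} {F : Type*} [Field F] {T : Tab} {P : LevData}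
variable (hC : Certified D T) (hP : LevOK D T P)
include hC hP

local notation "SLm" => Matrix.SpecialLinearGroup (Fin (P.m + 1)) F

theorem sep_dg : Sep D T P.dg := hP.sep

theorem grp_le_zero : P.grp hC F ≤ RP hC F fun r => lin D P.dg r = 0 := by
  refine (Subgroup.closure_le _).2 ?_
  rintro _ ⟨i, hi, ⟨k, rfl⟩, t, rfl | rfl⟩
  · exact xg_mem_RP hC (hC.simple_lt hi) (P := fun r => lin D P.dg r = 0) (hP.dg_nd k) t
  · exact xg_mem_RP hC (hC.neg_lt (hC.simple_lt hi)) (P := fun r => lin D P.dg r = 0)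
      (by rw [lin_neg hC _ (hC.simple_lt hi), hP.dg_nd k, neg_zero]) t

theorem grp_le_homog : P.grp hC F ≤ homogSubgroup (D := D) (F := F) P.dg :=
  (grp_le_zero hC hP).trans (RP_le_homog hC fun _ _ h => h)

theorem posZ_le_grp : posZ hC F P.dg ≤ P.grp hC F := by
  refine (Subgroup.closure_le _).2 ?_
  rintro _ ⟨r, t, hr, ⟨hp, h0⟩, rfl⟩
  obtain ⟨e, he, rfl, -⟩ := hP.pos_ents r hr hp h0
  exact ent_mem hC hP he t

theorem negZ_le_grp : negZ hC F P.dg ≤ P.grp hC F := by
  refine (Subgroup.closure_le _).2 ?_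
  rintro _ ⟨r, t, hr, ⟨hp, h0⟩, rfl⟩
  obtain ⟨e, he, rfl, -⟩ := hP.neg_ents r hr hp h0
  exact ent_mem hC hP he t

theorem U_grp {u : GL D.Idx F} (hu : u ∈ D.posUnipotent F) (hM : u ∈ P.grp hC F) :
    u ∈ posZ hC F P.dg := by
  obtain ⟨p, hp, k, hk, rfl⟩ := U_split_deg hC hP.sep hu
  have : p = 1 := homog_inf_pos hC (by
    simpa using mul_mem (grp_le_homog hC hP hM)
      (inv_mem (RP_le_homog hC (fun r _ h => h.2) hk))) hp
  rwa [this, one_mul]

theorem V_grp {v : GL D.Idx F} (hv : v ∈ D.negUnipotent F) (hM : v ∈ P.grp hC F) :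
    v ∈ negZ hC F P.dg := by
  obtain ⟨p, hp, k, hk, rfl⟩ := V_split_deg hC hP.sep hv
  have : p = 1 := homog_inf_neg hC (by
    simpa using mul_mem (grp_le_homog hC hP hM)
      (inv_mem (RP_le_homog hC (fun r _ h => h.2) hk))) hp
  rwa [this, one_mul]

theorem act_tri (Q : ℕ → Prop) (w : Fin (P.m + 1) → ℤ)
    (hQ : ∀ r < D.nroots, Q r → ∃ e ∈ P.ents, e.r = r ∧ 1 ≤ w e.x - w e.y) {g : GL D.Idx F}
    (hg : g ∈ RP hC F Q) :
    ∃ A : SLm, P.Act D g A ∧ Matrix.SpecialLinearGroup.toGL A ∈ UT w 1 zero_le_one := by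
  induction hg using Subgroup.closure_induction with
  | mem g hg =>
    obtain ⟨r, t, hr, hq, rfl⟩ := hg
    obtain ⟨e, he, rfl, hw⟩ := hQ r hr hq
    have h2 := (hP.ents_ok e he).2.1
    refine ⟨Matrix.SpecialLinearGroup.transvection h2 ((e.sgn : F) * t), ent_act hC hP he t (by
      rw [Matrix.SpecialLinearGroup.transvection_coe]), ?_⟩
    have hfil : ∀ c : F, Fil w 1 (1 + Matrix.single e.x e.y c - 1) := by
      intro c i j hij
      rw [add_sub_cancel_left, Matrix.single_apply] at hij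
      split_ifs at hij with h
      · rw [← h.1, ← h.2]; exact hw
      · exact absurd rfl hij
    refine ⟨?_, ?_⟩
    · show Fil w 1 ((Matrix.SpecialLinearGroup.transvection h2 ((e.sgn : F) * t) : SLm).1 - 1)
      rw [Matrix.SpecialLinearGroup.transvection_coe]; exact hfil _
    · rw [← map_inv]
      show Fil w 1 (((Matrix.SpecialLinearGroup.transvection h2 ((e.sgn : F) * t) : SLm)⁻¹).1 - 1)
      rw [show (Matrix.SpecialLinearGroup.transvection h2 ((e.sgn : F) * t) : SLm)⁻¹ =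
        Matrix.SpecialLinearGroup.transvection h2 (-((e.sgn : F) * t)) from
        inv_eq_of_mul_eq_one_right (Subtype.ext (by
          rw [Matrix.SpecialLinearGroup.coe_mul, Matrix.SpecialLinearGroup.transvection_coe,
            Matrix.SpecialLinearGroup.transvection_coe, Matrix.SpecialLinearGroup.coe_one]
          simp [Matrix.mul_add, Matrix.add_mul, h2.symm, add_assoc]
          rw [← Matrix.single_add, add_neg_cancel, Matrix.single_zero])),
        Matrix.SpecialLinearGroup.transvection_coe]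
      exact hfil _
  | one => exact ⟨1, act_one hC hP, by rw [map_one]; exact one_mem _⟩
  | mul g h _ _ ih ih' =>
    obtain ⟨A, hA, hA'⟩ := ih; obtain ⟨B, hB, hB'⟩ := ih'
    exact ⟨A * B, act_mul hC hP hA hB, by rw [map_mul]; exact mul_mem hA' hB'⟩
  | inv g _ ih =>
    obtain ⟨A, hA, hA'⟩ := ih
    exact ⟨A⁻¹, act_inv hC hP hA, by rw [map_inv]; exact inv_mem hA'⟩

theorem act_pos {g : GL D.Idx F} (hg : g ∈ posZ hC F P.dg) :
    ∃ A : SLm, P.Act D g A ∧ Matrix.SpecialLinearGroup.toGL A ∈ UT P.wt 1 zero_le_one := by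
  refine act_tri hC hP _ _ (fun r hr h => ?_) hg
  obtain ⟨e, he, h1, h2⟩ := hP.pos_ents r hr h.1 h.2
  exact ⟨e, he, h1, by rw [h2]; exact h.1⟩

theorem act_neg {g : GL D.Idx F} (hg : g ∈ negZ hC F P.dg) :
    ∃ A : SLm, P.Act D g A ∧
      Matrix.SpecialLinearGroup.toGL A ∈ UT (fun j => -P.wt j) 1 zero_le_one := by
  refine act_tri hC hP _ _ (fun r hr h => ?_) hg
  obtain ⟨e, he, h1, h2⟩ := hP.neg_ents r hr h.1 h.2
  exact ⟨e, he, h1, by omega⟩

theorem prodX_act : ∀ {L : List ℕ}, L.Pairwise (· < ·) →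
    (∀ r ∈ L, r < D.nroots ∧ 0 < T.phi r ∧ lin D P.dg r = 0) → ∀ (f : ℕ → F),
    P.Act D (prodX hC L f) (1 : SLm) → ∀ r ∈ L, f r = 0 := by
  intro L
  induction L with
  | nil => simp
  | cons a L ih =>
    intro hs hL f h1 r hr
    obtain ⟨ha, hp, h0⟩ := hL a List.mem_cons_self
    have hpair := List.pairwise_cons.1 hs
    obtain ⟨e, he, hea, hw⟩ := hP.pos_ents a ha hp h0
    have h2 := (hP.ents_ok e he).2.1
    have hL' : ∀ s ∈ L, s < D.nroots ∧ 0 < T.phi s ∧ lin D P.dg s = 0 :=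
      fun s hs' => hL s (List.mem_cons_of_mem a hs')
    have hmem : prodX hC L f ∈ RP hC F fun s => 0 < T.phi s ∧ lin D P.dg s = 0 ∧ a < s := by
      refine list_prod_mem fun g hg => ?_
      obtain ⟨s, hs', rfl⟩ := List.mem_map.1 hg
      exact xg_mem_RP hC (hL' s hs').1 (P := fun s => 0 < T.phi s ∧ lin D P.dg s = 0 ∧ a < s)
        ⟨(hL' s hs').2.1, (hL' s hs').2.2, hpair.1 s hs'⟩ _
    obtain ⟨R, hR, -⟩ := act_tri hC hP _ P.wt (fun s hs' h => by
      obtain ⟨e', he', h1', h2'⟩ := hP.pos_ents s hs' h.1 h.2.1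
      exact ⟨e', he', h1', by rw [h2']; exact h.1⟩) hmem
    have hfil : ∀ {g : GL D.Idx F},
        g ∈ RP hC F (fun s => 0 < T.phi s ∧ lin D P.dg s = 0 ∧ a < s) → ∀ {B : SLm}, P.Act D g B →
        Fil P.wt (T.phi a + 1) (B.1 - 1) := by
      intro g hg
      induction hg using Subgroup.closure_induction'' with
      | mem g hg =>
        obtain ⟨s, t, hs', ⟨hps, h0s, has⟩, rfl⟩ := hg
        intro B hB
        obtain ⟨e', he', rfl, hw'⟩ := hP.pos_ents s hs' hps h0s
        have e2 : B = Matrix.SpecialLinearGroup.transvection (hP.ents_ok e' he').2.1 ((e'.sgn : F) * t) :=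
          act_unique hC hP hB (ent_act hC hP he' t (by rw [Matrix.SpecialLinearGroup.transvection_coe]))
        rw [e2, Matrix.SpecialLinearGroup.transvection_coe, add_sub_cancel_left]
        intro i j hij
        rw [Matrix.single_apply] at hij
        split_ifs at hij with h
        · rw [← h.1, ← h.2, hw']; exact hC.phi_lt has hs'
        · exact absurd rfl hij
      | inv_mem g hg =>
        obtain ⟨s, t, hs', ⟨hps, h0s, has⟩, rfl⟩ := hg
        intro B hB
        rw [xg_inv hC] at hB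
        obtain ⟨e', he', rfl, hw'⟩ := hP.pos_ents s hs' hps h0s
        have e2 : B = Matrix.SpecialLinearGroup.transvection (hP.ents_ok e' he').2.1 ((e'.sgn : F) * -t) :=
          act_unique hC hP hB (ent_act hC hP he' _ (by rw [Matrix.SpecialLinearGroup.transvection_coe]))
        rw [e2, Matrix.SpecialLinearGroup.transvection_coe, add_sub_cancel_left]
        intro i j hij
        rw [Matrix.single_apply] at hij
        split_ifs at hij with h
        · rw [← h.1, ← h.2, hw']; exact hC.phi_lt has hs'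
        · exact absurd rfl hij
      | one =>
        intro B hB
        rw [act_unique hC hP hB (act_one hC hP)]
        simpa using fil_zero P.wt (T.phi a + 1)
      | mul g g' hg hg' ihg ihg' =>
        intro B hB
        obtain ⟨B1, hB1, -⟩ := act_tri hC hP _ P.wt (fun s hs' h => by
          obtain ⟨e', he', h1', h2'⟩ := hP.pos_ents s hs' h.1 h.2.1
          exact ⟨e', he', h1', by rw [h2']; exact h.1⟩) hg
        obtain ⟨B2, hB2, -⟩ := act_tri hC hP _ P.wt (fun s hs' h => by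
          obtain ⟨e', he', h1', h2'⟩ := hP.pos_ents s hs' h.1 h.2.1
          exact ⟨e', he', h1', by rw [h2']; exact h.1⟩) hg'
        rw [act_unique hC hP hB (act_mul hC hP hB1 hB2), Matrix.SpecialLinearGroup.coe_mul,
          show B1.1 * B2.1 - 1 = (B1.1 - 1) * (B2.1 - 1) + ((B1.1 - 1) + (B2.1 - 1)) by noncomm_ring]
        exact fil_add _ (fil_mono _ (by omega) (fil_mul _ (ihg hB1) (ihg' hB2)))
          (fil_add _ (ihg hB1) (ihg' hB2))
    have hRf := hfil hmem hR
    obtain ⟨E0, hE0⟩ : ∃ E0 : SLm, E0 = Matrix.SpecialLinearGroup.transvection h2 ((e.sgn : F) * f a) :=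
      ⟨_, rfl⟩
    have hE : P.Act D (xg hC a (f a)) E0 := by
      rw [← hea]
      exact ent_act hC hP he _ (by rw [hE0, Matrix.SpecialLinearGroup.transvection_coe, hea])
    have e1 : prodX hC (a :: L) f = xg hC a (f a) * prodX hC L f := by simp [prodX]
    rw [e1] at h1
    have hprod := congrArg (fun M : SLm => M.1 e.x e.y) (act_unique hC hP (act_mul hC hP hE hR) h1)
    simp only [Matrix.SpecialLinearGroup.coe_mul, hE0, Matrix.SpecialLinearGroup.transvection_coe,
      Matrix.SpecialLinearGroup.coe_one, Matrix.one_apply_ne h2, Matrix.add_mul, Matrix.one_mul,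
      Matrix.add_apply] at hprod
    have hxy : R.1 e.x e.y = 0 := by
      by_contra hne
      have := hRf e.x e.y (by rwa [Matrix.sub_apply, Matrix.one_apply_ne h2, sub_zero])
      omega
    have hyy : R.1 e.y e.y = 1 := by
      by_contra hne
      have := hRf e.y e.y (by rw [Matrix.sub_apply, Matrix.one_apply_eq]; exact sub_ne_zero.2 hne)
      omega
    rw [hxy, Matrix.single_mul_apply_same, hyy, mul_one, zero_add] at hprod
    have hσ : (e.sgn : F) ≠ 0 := fun h => by
      have := congrArg (Int.cast : ℤ → F) (hP.ents_ok e he).2.2.1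
      simp [h] at this
    have hfa : f a = 0 := (mul_eq_zero.1 hprod).resolve_left hσ
    rcases List.mem_cons.1 hr with rfl | hr
    · exact hfa
    · refine ih hpair.2 hL' f ?_ r hr
      rwa [hfa, xg_zero hC, one_mul] at h1

theorem posZ_inj {u : GL D.Idx F} (hu : u ∈ posZ hC F P.dg) (h : P.Act D u (1 : SLm)) : u = 1 := by
  have hU : u ∈ D.posUnipotent F := by
    refine ((Subgroup.closure_le _).2 ?_ : posZ hC F P.dg ≤ D.posUnipotent F) hu
    rintro _ ⟨r, t, hr, hq, rfl⟩
    exact xg_mem_U hC hr hq.1 t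
  rw [← Uge_zero hC] at hU
  obtain ⟨f, hf⟩ := split_decomp hC (fun r => decide (lin D P.dg r = 0)) 0 u hU
  rw [posFrom_zero] at hf
  have h1 : ∀ r ∈ D.posRoots.filter (fun r => decide (lin D P.dg r = 0)),
      r < D.nroots ∧ 0 < T.phi r ∧ lin D P.dg r = 0 := fun r hr => by
    obtain ⟨hr1, hr2⟩ := List.mem_filter.1 hr
    exact ⟨((mem_posRoots hC).1 hr1).1, ((mem_posRoots hC).1 hr1).2, by simpa using hr2⟩
  have h2 : prodX hC (D.posRoots.filter fun r => !decide (lin D P.dg r = 0)).reverse f = 1 := by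
    refine homog_inf_pos hC (a := P.dg) ?_ (list_prod_mem fun g hg => ?_)
    · have h3 : prodX hC (D.posRoots.filter fun r => decide (lin D P.dg r = 0)) f ∈
          homogSubgroup (D := D) (F := F) P.dg := list_prod_mem fun g hg => by
        obtain ⟨r, hr, rfl⟩ := List.mem_map.1 hg
        exact xg_mem_homog hC _ (h1 r hr).1 (h1 r hr).2.2 _
      have h4 := mul_mem (inv_mem h3) (RP_le_homog hC (fun r _ h => h.2) hu)
      rwa [hf, inv_mul_cancel_left] at h4
    · obtain ⟨r, hr, rfl⟩ := List.mem_map.1 hg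
      obtain ⟨hr1, hr2⟩ := List.mem_filter.1 (List.mem_reverse.1 hr)
      have h3 := (mem_posRoots hC).1 hr1
      have h4 : lin D P.dg r ≠ 0 := by simpa using hr2
      exact xg_mem_RP hC h3.1 (P := fun r => 0 < lin D P.dg r)
        (lt_of_le_of_ne (hP.sep r h3.1 h3.2) (Ne.symm h4)) _
  rw [h2, mul_one] at hf
  have h5 := prodX_act hC hP ((posRoots_sorted (D := D)).filter _) h1 f (hf ▸ h)
  rw [hf]
  refine List.prod_eq_one fun g hg => ?_
  obtain ⟨r, hr, rfl⟩ := List.mem_map.1 hg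
  rw [h5 r hr, xg_zero hC]

theorem negZ_inj {u : GL D.Idx F} (hu : u ∈ negZ hC F P.dg) (h : P.Act D u (1 : SLm)) : u = 1 := by
  have hL := word_lt hC hP hP.lw_ok.1
  obtain ⟨n, hn⟩ : ∃ n, n = nL hC F P.lw := ⟨_, rfl⟩
  have hnM : n ∈ P.grp hC F := hn ▸ nL_mem_grp hC hP hP.lw_ok.1
  have hlw : ∀ r < D.nroots, lin D P.dg r = 0 → lin D P.dg (wL D P.lw r) = 0 := by
    intro r hr h0
    have hmem := hP.lw_ok.1
    clear hn hnM
    revert hmem
    generalize P.lw = L
    intro hmem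
    induction L with
    | nil => exact h0
    | cons i L ih =>
      obtain ⟨k, rfl⟩ := hmem i List.mem_cons_self
      show lin D P.dg (D.reflectRoot (P.nd k) (wL D L r)) = 0
      rw [lin_reflect hC P.dg (hP.nd_lt k) (wL_lt hC (word_lt hC hP fun l hl => hmem l (List.mem_cons_of_mem _ hl)) hr),
        ih fun l hl => hmem l (List.mem_cons_of_mem _ hl), hP.dg_nd k]
      simp
  have h1 : n * u * n⁻¹ ∈ posZ hC F P.dg := by
    suffices hle : negZ hC F P.dg ≤ (posZ hC F P.dg).comap (MulAut.conj n).toMonoidHom from hle hu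
    refine (Subgroup.closure_le _).2 ?_
    rintro _ ⟨r, t, hr, ⟨hp, h0⟩, rfl⟩
    obtain ⟨η, -, hη⟩ := nL_conj_x (F := F) hC hL hr
    show n * xg hC r t * n⁻¹ ∈ posZ hC F P.dg
    rw [hn, hη]
    exact xg_mem_RP hC (wL_lt hC hL hr) (P := fun r => 0 < T.phi r ∧ lin D P.dg r = 0)
      ⟨hP.lw_ok.2 r hr hp h0, hlw r hr h0⟩ _
  obtain ⟨A, hA⟩ := exists_act hC hP hnM
  have h2 : P.Act D (n * u * n⁻¹) (1 : SLm) := by
    have := act_mul hC hP (act_mul hC hP hA h) (act_inv hC hP hA)
    rwa [mul_one, mul_inv_cancel] at this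
  exact conj_eq_one_iff.1 (posZ_inj hC hP h1 h2)

theorem tor_sl (c : ℕ → Fˣ) (hc : tor D c ∈ P.grp hC F) :
    ∃ A : SLm, P.Act D (tor D c) A ∧ ∀ i j, A.1 i j = if i = j then (torChar D c (P.b j) : F) else 0 := by
  obtain ⟨A, hA⟩ := exists_act hC hP hc
  refine ⟨A, hA, fun i j => ?_⟩
  obtain ⟨hinj, hlt, hd⟩ := hP.wf
  obtain ⟨x, hx⟩ := Cfsg.Agent.Chevalley.Eval.exists_code (D := D) (j := D.rank + P.b i)
    (by have := hlt i; omega)
  have e := congrArg (fun v : D.Idx → F => v x) ((hA j).symm.trans (tor_bv hC hP c j))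
  have hd0 : (P.d i : F) ≠ 0 := fun e' => by
    have := congrArg (Int.cast : ℤ → F) (hd i)
    simp [e'] at this
  simp only [Finset.sum_apply, Pi.smul_apply, bv, LevData.blk, Cfsg.Agent.Chevalley.Eval.basis, hx,
    smul_eq_mul] at e
  rw [Finset.sum_eq_single i (fun l _ hl => by
      simp [show P.b i ≠ P.b l from fun h => hl (hinj _ _ h).symm]) (by simp)] at e
  by_cases hij : i = j
  · subst hij
    simp only [if_true, mul_one] at e ⊢
    exact mul_right_cancel₀ hd0 e
  · simp [show P.b i ≠ P.b j from fun h => hij (hinj _ _ h), hd0, hij] at e ⊢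
    exact e

omit hC hP in
theorem ut_diag {w : Fin (P.m + 1) → ℤ} {A : SLm}
    (h : Matrix.SpecialLinearGroup.toGL A ∈ UT w 1 zero_le_one) (i : Fin (P.m + 1)) : A.1 i i = 1 := by
  by_contra hne
  have := h.1 i i (by rw [Matrix.sub_apply, Matrix.one_apply_eq]; exact sub_ne_zero.2 hne)
  omega

theorem act_inj {nv : ℕ → ℕ → ℤ} (hn : NodeOK D T nv) {z : GL D.Idx F} (hz : z ∈ P.grp hC F)
    (h : P.Act D z (1 : SLm)) : z = 1 := by
  obtain ⟨a, ⟨ha, haM⟩, b, ⟨hb, hbM⟩, c, hc, u, ⟨hu, huM⟩, rfl⟩ := cell_all hC hn P.inS hz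
  have hcM : tor D c ∈ P.grp hC F := by
    have := mul_mem (s := P.grp hC F) (mul_mem (inv_mem hbM) (inv_mem haM)) (mul_mem hz (inv_mem huM))
    simpa [mul_assoc] using this
  have haZ := U_grp hC hP ha haM
  have huZ := U_grp hC hP hu huM
  have hbZ := V_grp hC hP hb hbM
  obtain ⟨Aa, hAa, hAa'⟩ := act_pos hC hP haZ
  obtain ⟨Ab, hAb, hAb'⟩ := act_neg hC hP hbZ
  obtain ⟨Au, hAu, hAu'⟩ := act_pos hC hP huZ
  obtain ⟨Ac, hAc, hAc'⟩ := tor_sl hC hP c hcM
  have e : Aa * Ab * Ac * Au = 1 :=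
    act_unique hC hP (act_mul hC hP (act_mul hC hP (act_mul hC hP hAa hAb) hAc) hAu) h
  have e' : Ab * Ac = Aa⁻¹ * Au⁻¹ := by
    calc Ab * Ac = Aa⁻¹ * (Aa * Ab * Ac * Au) * Au⁻¹ := by group
      _ = _ := by rw [e, mul_one]
  have hR : Matrix.SpecialLinearGroup.toGL (Aa⁻¹ * Au⁻¹) ∈ UT P.wt 1 zero_le_one := by
    rw [map_mul, map_inv, map_inv]; exact mul_mem (inv_mem hAa') (inv_mem hAu')
  have hδ : ∀ i, (torChar D c (P.b i) : F) = 1 := by
    intro i
    have h1 : (Ab * Ac).1 i i = (Aa⁻¹ * Au⁻¹).1 i i := by rw [e']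
    rw [ut_diag hR, Matrix.SpecialLinearGroup.coe_mul, Matrix.mul_apply, Finset.sum_eq_single i
      (fun l _ hl => by simp [hAc', hl]) (by simp), ut_diag hAb', one_mul, hAc', if_pos rfl] at h1
    exact h1
  have hAc1 : Ac = 1 := Subtype.ext (Matrix.ext fun i j => by
    rw [hAc', Matrix.SpecialLinearGroup.coe_one, Matrix.one_apply]
    split_ifs with hij
    · exact hδ j
    · rfl)
  rw [hAc1, mul_one] at e'
  have hAb1 : Ab = 1 := Matrix.SpecialLinearGroup.toGL_injective (by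
    rw [map_one]
    refine eq_one_of_pos_neg P.wt (d := 1) (e := 1) (hd := zero_le_one) (Or.inl one_pos) ?_ hAb'
    rw [e']; exact hR)
  have hb1 : b = 1 := negZ_inj hC hP hbZ (hAb1 ▸ hAb)
  have hck : ∀ (k : ℕ) (hk : k < P.m), c (P.nd ⟨k, hk⟩) = 1 := by
    intro k
    induction k using Nat.strong_induction_on with
    | _ k ih =>
      intro hk
      have h1 := Units.val_eq_one.1 (hδ (Fin.castSucc ⟨k, hk⟩))
      rw [torChar, Finset.prod_eq_single (P.nd ⟨k, hk⟩)] at h1
      · rw [hP.wts, if_pos rfl, if_neg (Fin.castSucc_lt_succ).ne] at h1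
        simpa using h1
      · intro l hl hne
        by_cases hS : P.inS l
        · obtain ⟨k', rfl⟩ := hS
          by_cases hkk : (k' : ℕ) < k
          · rw [ih _ hkk k'.2, one_zpow]
          · rw [hP.wts, if_neg (fun h => hne (by rw [Fin.castSucc_injective _ h])), if_neg ?_]
            · simp
            · intro h; rw [Fin.ext_iff] at h; simp at h; omega
        · rw [hc l (Finset.mem_range.1 hl) hS, one_zpow]
      · intro hnot; exact absurd (Finset.mem_range.2 (hP.nd_lt _)) hnot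
  have hc1 : tor D c = (1 : GL D.Idx F) := by
    rw [← tor_one (D := D) (F := F)]
    refine dg_congr fun r _ => Finset.prod_congr rfl fun l hl => ?_
    by_cases hS : P.inS l
    · obtain ⟨k, rfl⟩ := hS
      simp [hck k k.2]
    · simp [hc l (Finset.mem_range.1 hl) hS]
  rw [hb1, hc1, mul_one, mul_one] at h ⊢
  exact posZ_inj hC hP (mul_mem haZ huZ) h

end Cfsg.Agent.ClassSquareGauss.Chev
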