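import Cfsg.Agent.Lib.ClassSquareGauss.Chev.Reach

/-!
Every non-trivial element has a Gauss decomposition with any prescribed torus part.
-/

set_option autoImplicit false
set_option linter.unusedSectionVars false

namespace Cfsg.Agent.ClassSquareGauss.Chev

open Cfsg.Lie Cfsg.Agent.Chevalley Cfsg.Agent.Chevalley.Cert Cfsg.Agent.Chevalley.Group
  Cfsg.Agent.Chevalley.Table Cfsg.Agent.Chevalley.Unip Cfsg.Agent.Chevalley.Borel
  Cfsg.Agent.Chevalley.Graded

variable {D : ChevalleyDatum} {F : Type*} [Field F] {T : Tab}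

/-- The shape of the diagram: a tree on `0, …, rank-1`, each node joined to a later one, with all row
sums of absolute Cartan entries at most `6`. -/
def TreeOK (D : ChevalleyDatum) (par : ℕ → ℕ) : Prop :=
  (∀ k < D.rank - 1, k < par k ∧ par k < D.rank ∧ D.cartan k (D.simple (par k)) ≠ 0 ∧
    D.cartan (par k) (D.simple k) ≠ 0 ∧
    ∀ l < D.rank, k < l → l ≠ par k → D.cartan k (D.simple l) = 0) ∧
  (∀ i < D.rank, D.cartan i (D.simple i) ≠ 0 ∧
    ∑ l ∈ Finset.range D.rank, (D.cartan i (D.simple l)).natAbs ≤ 6)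

theorem exists_avoid_units [Fintype F] (s : Finset ℕ) (a : ℕ → Fˣ) (m : ℕ → ℤ)
    (h : ∑ l ∈ s, (m l).natAbs + 1 < Fintype.card F) (h0 : ∀ l ∈ s, m l = 0 → a l ≠ 1) :
    ∃ S : Fˣ, ∀ l ∈ s, a l * S ^ m l ≠ 1 := by
  classical
  by_contra hcon
  push Not at hcon
  have hcov : (Finset.univ : Finset Fˣ) ⊆
      s.biUnion fun l => Finset.univ.filter fun S => a l * S ^ m l = 1 := fun S _ => by
    obtain ⟨l, hl, e⟩ := hcon S
    exact Finset.mem_biUnion.2 ⟨l, hl, Finset.mem_filter.2 ⟨Finset.mem_univ _, e⟩⟩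
  have hb : ∀ l ∈ s, (Finset.univ.filter fun S : Fˣ => a l * S ^ m l = 1).card ≤ (m l).natAbs := by
    intro l hl
    rcases eq_or_ne (m l) 0 with hm | hm
    · rw [Finset.filter_false_of_mem fun S _ => by simpa [hm] using h0 l hl hm]
      simp
    obtain ⟨n, hn⟩ : ∃ n : ℕ, n = (m l).natAbs := ⟨_, rfl⟩
    have hn0 : 0 < n := by omega
    obtain ⟨b, hb⟩ : ∃ b : Fˣ, ∀ S : Fˣ, a l * S ^ m l = 1 → S ^ n = b := by
      rcases Int.natAbs_eq (m l) with e | e
      · refine ⟨(a l)⁻¹, fun S hS => ?_⟩
        rw [e, zpow_natCast, ← hn] at hS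
        exact eq_inv_of_mul_eq_one_right hS
      · refine ⟨a l, fun S hS => ?_⟩
        rw [e, zpow_neg, zpow_natCast, ← hn, mul_inv_eq_one] at hS
        exact hS.symm
    rw [← hn]
    calc _ ≤ ((Polynomial.nthRoots n (b : F)).toFinset).card := by
          refine Finset.card_le_card_of_injOn (fun S : Fˣ => (S : F)) (fun S hS => ?_)
            (fun _ _ _ _ e => Units.ext e)
          simp only [Finset.coe_filter, Finset.mem_univ, true_and, Set.mem_setOf_eq] at hS
          simp only [Finset.mem_coe, Multiset.mem_toFinset, Polynomial.mem_nthRoots hn0]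
          rw [← hb S hS, Units.val_pow_eq_pow_val]
      _ ≤ _ := (Multiset.toFinset_card_le _).trans (Polynomial.card_nthRoots _ _)
  have := (Finset.card_le_card hcov).trans (Finset.card_biUnion_le.trans (Finset.sum_le_sum hb))
  rw [Finset.card_univ, Fintype.card_units] at this
  omega

variable (hC : Certified D T) {nv : ℕ → ℕ → ℤ} (hn : NodeOK D T nv) {par : ℕ → ℕ} (hT : TreeOK D par)
include hC hn hT

theorem all_free [Fintype F] (hF : 9 ≤ Fintype.card F) {g : GL D.Idx F} (hg : g ∈ D.group F)
    (h1 : g ≠ 1) : ∃ c, St g c ∧ ∀ l < D.rank, chi D c l ≠ 1 := by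
  classical
  obtain ⟨c, -, i, hi, hfree⟩ := first_move hC hn hg h1
  have start : ∃ c, St g c ∧ ∃ l < D.rank, chi D c l ≠ 1 := by
    obtain ⟨S, hS⟩ := exists_avoid_units {i} (fun _ => chi D c i) (fun _ => D.cartan i (D.simple i))
      (by
        have h2 := (hT.2 i hi).2
        have h3 := Finset.single_le_sum (f := fun l => (D.cartan i (D.simple l)).natAbs)
          (fun _ _ => Nat.zero_le _) (Finset.mem_range.2 hi)
        rw [Finset.sum_singleton]
        omega)
      (fun l _ h => absurd h (hT.2 i hi).1)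
    refine ⟨_, hfree S, i, hi, ?_⟩
    rw [chi_up hC c hi S i]
    exact hS i (Finset.mem_singleton_self i)
  suffices h : ∀ (n : ℕ) (c : ℕ → Fˣ), St g c → (∃ l < D.rank, chi D c l ≠ 1) →
      ((Finset.range D.rank).filter fun l => chi D c l = 1).card ≤ n →
      ∃ c, St g c ∧ ∀ l < D.rank, chi D c l ≠ 1 by
    obtain ⟨c, hc, hl⟩ := start
    exact h _ c hc hl le_rfl
  intro n
  induction n with
  | zero =>
    intro c hc _ hcard
    refine ⟨c, hc, fun l hl hl1 => ?_⟩
    rw [Nat.le_zero, Finset.card_eq_zero, Finset.filter_eq_empty_iff] at hcard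
    exact hcard (Finset.mem_range.2 hl) hl1
  | succ n ih =>
    intro c hc hsome hcard
    by_cases hall : ∀ l < D.rank, chi D c l ≠ 1
    · exact ⟨c, hc, hall⟩
    obtain ⟨p, k, hp, hk, hadj, hp1, hk1⟩ : ∃ p k, p < D.rank ∧ k < D.rank ∧
        D.cartan p (D.simple k) ≠ 0 ∧ chi D c p ≠ 1 ∧ chi D c k = 1 := by
      push Not at hall
      obtain ⟨m, hm, hm1⟩ := hall
      obtain ⟨m', hm', hm'1⟩ := hsome
      by_cases hlast : chi D c (D.rank - 1) = 1
      · let s := (Finset.range D.rank).filter fun l => chi D c l ≠ 1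
        have hs : s.Nonempty := ⟨m', Finset.mem_filter.2 ⟨Finset.mem_range.2 hm', hm'1⟩⟩
        obtain ⟨hr, hr1⟩ := Finset.mem_filter.1 (s.max'_mem hs)
        have hr2 : s.max' hs < D.rank - 1 :=
          lt_of_le_of_ne (Nat.le_sub_one_of_lt (Finset.mem_range.1 hr)) fun e => hr1 (e ▸ hlast)
        obtain ⟨h1, h2, h3, -, -⟩ := hT.1 _ hr2
        refine ⟨_, _, Finset.mem_range.1 hr, h2, h3, hr1, ?_⟩
        by_contra hne
        have := s.le_max' _ (Finset.mem_filter.2 ⟨Finset.mem_range.2 h2, hne⟩)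
        omega
      · let s := (Finset.range D.rank).filter fun l => chi D c l = 1
        have hs : s.Nonempty := ⟨m, Finset.mem_filter.2 ⟨Finset.mem_range.2 hm, hm1⟩⟩
        obtain ⟨hr, hr1⟩ := Finset.mem_filter.1 (s.max'_mem hs)
        have hr2 : s.max' hs < D.rank - 1 :=
          lt_of_le_of_ne (Nat.le_sub_one_of_lt (Finset.mem_range.1 hr)) fun e => hlast (e ▸ hr1)
        obtain ⟨h1, h2, -, h4, -⟩ := hT.1 _ hr2
        refine ⟨_, _, h2, Finset.mem_range.1 hr, h4, ?_, hr1⟩
        intro hne
        have := s.le_max' _ (Finset.mem_filter.2 ⟨Finset.mem_range.2 h2, hne⟩)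
        omega
    let s := (Finset.range D.rank).filter fun l => l = k ∨ chi D c l ≠ 1
    obtain ⟨S, hS⟩ := exists_avoid_units s (chi D c) (fun l => D.cartan p (D.simple l))
      (by
        have h2 := (hT.2 p hp).2
        have h3 := Finset.sum_le_sum_of_subset (f := fun l => (D.cartan p (D.simple l)).natAbs)
          (s := s) (t := Finset.range D.rank) (Finset.filter_subset _ _)
        omega)
      (fun l hl h0 => by
        rcases (Finset.mem_filter.1 hl).2 with rfl | h
        · exact absurd h0 hadj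
        · exact h)
    refine ih _ (move hC hn hc hp hp1 S) ⟨p, hp, ?_⟩ ?_
    · rw [chi_up hC c hp S p]
      exact hS p (Finset.mem_filter.2 ⟨Finset.mem_range.2 hp, Or.inr hp1⟩)
    · have hlt : ((Finset.range D.rank).filter fun l => chi D (c * single1 p S) l = 1).card <
          ((Finset.range D.rank).filter fun l => chi D c l = 1).card := by
        refine Finset.card_lt_card ⟨fun l hl => ?_, fun hsub => ?_⟩
        · obtain ⟨hl', hl1⟩ := Finset.mem_filter.1 hl
          refine Finset.mem_filter.2 ⟨hl', ?_⟩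
          by_contra hne
          rw [chi_up hC c hp S l] at hl1
          exact hS l (Finset.mem_filter.2 ⟨hl', Or.inr hne⟩) hl1
        · have := hsub (Finset.mem_filter.2 ⟨Finset.mem_range.2 hk, hk1⟩)
          obtain ⟨-, hl1⟩ := Finset.mem_filter.1 this
          rw [chi_up hC c hp S k] at hl1
          exact hS k (Finset.mem_filter.2 ⟨Finset.mem_range.2 hk, Or.inl rfl⟩) hl1
      omega

/-- Ellers–Gordeev: any torus part. -/
theorem prescribe [Fintype F] (hF : 9 ≤ Fintype.card F) (hr : 1 ≤ D.rank) {g : GL D.Idx F}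
    (hg : g ∈ D.group F) (h1 : g ≠ 1) (t : ℕ → Fˣ) : St g t := by
  classical
  have step : ∀ k, k ≤ D.rank - 1 → ∃ c, St g c ∧ (∀ l < k, c l = t l) ∧
      ∀ l, k ≤ l → l < D.rank → chi D c l ≠ 1 := by
    intro k
    induction k with
    | zero =>
      intro _
      obtain ⟨c, hc, hall⟩ := all_free hC hn hT hF hg h1
      exact ⟨c, hc, fun l hl => absurd hl l.not_lt_zero, fun l _ => hall l⟩
    | succ k ih =>
      intro hk
      obtain ⟨c, hc, hfix, hfree⟩ := ih (by omega)
      have hkr : k < D.rank - 1 := by omega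
      obtain ⟨hkp, hpr, hkadj, hpk, hzero⟩ := hT.1 k hkr
      obtain ⟨S, hS⟩ : ∃ S : Fˣ, S = (c k)⁻¹ * t k := ⟨_, rfl⟩
      let s := (Finset.range D.rank).filter fun l => k ≤ l
      let a : ℕ → Fˣ := fun l => if l = k then chi D c l else chi D c l * S ^ D.cartan k (D.simple l)
      obtain ⟨R, hR⟩ := exists_avoid_units s a (fun l => D.cartan (par k) (D.simple l))
        (by
          have h2 := (hT.2 _ hpr).2
          have h3 := Finset.sum_le_sum_of_subset (f := fun l => (D.cartan (par k) (D.simple l)).natAbs)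
            (s := s) (t := Finset.range D.rank) (Finset.filter_subset _ _)
          omega)
        (fun l hl h0 => by
          obtain ⟨hl', hkl⟩ := Finset.mem_filter.1 hl
          simp only [a]
          split_ifs with e
          · exact absurd (e ▸ h0) hpk
          · have hlp : l ≠ par k := fun e' => (hT.2 _ hpr).1 (e' ▸ h0)
            rw [hzero l (Finset.mem_range.1 hl') (by omega) hlp, zpow_zero, mul_one]
            exact hfree l hkl (Finset.mem_range.1 hl'))
      have hc1 : St g (c * single1 (par k) R) := move hC hn hc hpr (hfree _ hkp.le hpr) R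
      have hk2 : k < D.rank := by omega
      have hk1 : chi D (c * single1 (par k) R) k ≠ 1 := by
        rw [chi_up hC c hpr R k]
        have := hR k (Finset.mem_filter.2 ⟨Finset.mem_range.2 hk2, le_rfl⟩)
        simpa [a] using this
      refine ⟨_, move hC hn hc1 hk2 hk1 S, fun l hl => ?_, fun l hkl hl => ?_⟩
      · rcases Nat.lt_succ_iff_lt_or_eq.1 hl with h | rfl
        · simp [single1, show l ≠ par k by omega, show l ≠ k by omega, hfix l h]
        · simp [single1, show l ≠ par l by omega, hS]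
      · rw [chi_up hC _ hk2, chi_up hC c hpr]
        have := hR l (Finset.mem_filter.2 ⟨Finset.mem_range.2 hl, by omega⟩)
        simp only [a, if_neg (show l ≠ k by omega)] at this
        rwa [mul_right_comm] at this
  obtain ⟨c, hc, hfix, hfree⟩ := step (D.rank - 1) le_rfl
  have h := move hC hn hc (i := D.rank - 1) (by omega) (hfree _ le_rfl (by omega))
    ((c (D.rank - 1))⁻¹ * t (D.rank - 1))
  obtain ⟨v, hv, u, hu, hrel⟩ := h
  refine ⟨v, hv, u, hu, ?_⟩
  have e : tor D (c * single1 (D.rank - 1) ((c (D.rank - 1))⁻¹ * t (D.rank - 1))) = (tor D t : GL D.Idx F) := by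
    refine dg_congr fun r _ => Finset.prod_congr rfl fun l hl => ?_
    have hl' := Finset.mem_range.1 hl
    congr 1
    by_cases e : l = D.rank - 1
    · simp [single1, e]
    · simp [single1, e, hfix l (by omega)]
  rwa [e] at hrel

end Cfsg.Agent.ClassSquareGauss.Chev
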