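import Cfsg.Agent.Lib.Chevalley.SL2
import Cfsg.Agent.Lib.Chevalley.Coef
import Cfsg.Agent.Lib.Chevalley.Perfect
import Cfsg.Agent.Lib.Chevalley.Graded

/-!
Subgroups generated by the root groups of a graded Chevalley group in given degrees.
-/

set_option autoImplicit false

namespace Cfsg.Agent.ClassSquareGauss.Chev

open Cfsg.Lie Cfsg.Agent.Chevalley Cfsg.Agent.Chevalley.Cert Cfsg.Agent.Chevalley.Group
  Cfsg.Agent.Chevalley.Table Cfsg.Agent.Chevalley.Unip Cfsg.Agent.Chevalley.Borel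
  Cfsg.Agent.Chevalley.Weight Cfsg.Agent.Chevalley.Graded

variable {D : ChevalleyDatum} {F : Type*} [Field F] {T : Tab}

/-- The subgroup generated by the root groups of the roots satisfying `P`. -/
def RP (hC : Certified D T) (F : Type*) [Field F] (P : ℕ → Prop) : Subgroup (GL D.Idx F) :=
  Subgroup.closure {g : GL D.Idx F | ∃ (r : ℕ) (t : F), r < D.nroots ∧ P r ∧ g = xg hC r t}

/-- Positive degree. -/
abbrev posS (hC : Certified D T) (F : Type*) [Field F] (a : ℕ → ℤ) : Subgroup (GL D.Idx F) :=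
  RP hC F fun r => 0 < lin D a r

/-- Negative degree. -/
abbrev negS (hC : Certified D T) (F : Type*) [Field F] (a : ℕ → ℤ) : Subgroup (GL D.Idx F) :=
  RP hC F fun r => lin D a r < 0

/-- The degree is non-negative on positive roots. -/
def Sep (D : ChevalleyDatum) (T : Tab) (a : ℕ → ℤ) : Prop :=
  ∀ r < D.nroots, 0 < T.phi r → 0 ≤ lin D a r

variable (hC : Certified D T)

theorem xg_mem_RP {P : ℕ → Prop} {r : ℕ} (hr : r < D.nroots) (h : P r) (t : F) :
    xg hC r t ∈ RP hC F P :=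
  Subgroup.subset_closure ⟨r, t, hr, h, rfl⟩

theorem RP_le_group (P : ℕ → Prop) : RP hC F P ≤ D.group F :=
  (Subgroup.closure_le _).2 fun _ ⟨_, t, hr, _, e⟩ => e ▸ xg_mem_group hC hr t

theorem RP_mono {P Q : ℕ → Prop} (h : ∀ r < D.nroots, P r → Q r) : RP hC F P ≤ RP hC F Q :=
  (Subgroup.closure_le _).2 fun _ ⟨_, t, hr, hP, e⟩ => e ▸ xg_mem_RP hC hr (h _ hr hP) t

theorem H_conj_RP {P : ℕ → Prop} {h g : GL D.Idx F} (hh : h ∈ D.diagonalSubgroup F)
    (hg : g ∈ RP hC F P) : h * g * h⁻¹ ∈ RP hC F P :=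
  (Subgroup.mem_normalizer_iff.1 (H_le_normalizer hC hh) g).1 hg

theorem H_conj_RP' {P : ℕ → Prop} {h g : GL D.Idx F} (hh : h ∈ D.diagonalSubgroup F)
    (hg : g ∈ RP hC F P) : h⁻¹ * g * h ∈ RP hC F P := by
  simpa using H_conj_RP hC (inv_mem hh) hg

theorem tor_conj_x' (c : ℕ → Fˣ) {r : ℕ} (hr : r < D.nroots) (t : F) :
    tor D c * xg hC r t = xg hC r ((torChar D c r : F) * t) * tor D c := by
  rw [← tor_conj_x hC c r t hr]; group

section

include hC

theorem lin_of_pos {a : ℕ → ℤ} (hs : Sep D T a) {r : ℕ} (hr : r < D.nroots) (h : 0 < lin D a r) :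
    0 < T.phi r := by
  by_contra hn
  have h1 := hC.phi_ne_zero hr
  have h2 := hs _ (hC.neg_lt hr) (by rw [hC.phi_neg hr]; omega)
  rw [lin_neg hC a hr] at h2
  omega

theorem lin_of_neg {a : ℕ → ℤ} (hs : Sep D T a) {r : ℕ} (hr : r < D.nroots) (h : lin D a r < 0) :
    T.phi r < 0 := by
  by_contra hn
  have h1 := hC.phi_ne_zero hr
  have h2 := hs r hr (by omega)
  omega

end

theorem posS_le_U {a : ℕ → ℤ} (hs : Sep D T a) : posS hC F a ≤ D.posUnipotent F :=
  (Subgroup.closure_le _).2 fun _ ⟨_, t, hr, hP, e⟩ => e ▸ xg_mem_U hC hr (lin_of_pos hC hs hr hP) t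

theorem negS_le_V {a : ℕ → ℤ} (hs : Sep D T a) : negS hC F a ≤ D.negUnipotent F :=
  (Subgroup.closure_le _).2 fun _ ⟨_, t, hr, hP, e⟩ => e ▸ xg_mem_V hC hr (lin_of_neg hC hs hr hP) t

theorem posS_le_UT (a : ℕ → ℤ) : posS hC F a ≤ UT (deg D a) 1 zero_le_one :=
  (Subgroup.closure_le _).2 fun _ ⟨_, t, hr, hP, e⟩ => e ▸ xg_mem_UT_deg hC a hr hP t

theorem lin_negA (a : ℕ → ℤ) (r : ℕ) : lin D (fun i => -a i) r = -lin D a r := by
  simp [lin, Finset.sum_neg_distrib]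

theorem negS_eq (a : ℕ → ℤ) : negS hC F a = posS hC F fun i => -a i := by
  simp only [negS, posS, lin_negA, Left.neg_pos_iff]

theorem homog_neg (a : ℕ → ℤ) {g : GL D.Idx F} (h : g ∈ homogSubgroup (D := D) (F := F) a) :
    g ∈ homogSubgroup (D := D) (F := F) fun i => -a i := by
  have hd : ∀ i, deg D (fun i => -a i) i = -deg D a i := by
    rintro (i | i) <;> simp [deg, lin, Finset.sum_neg_distrib]
  refine ⟨fun i j hij => ?_, fun i j hij => ?_⟩
  · rw [hd, hd, h.1 i j hij]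
  · rw [hd, hd, h.2 i j hij]

theorem homog_inf_pos {a : ℕ → ℤ} {g : GL D.Idx F} (h : g ∈ homogSubgroup (D := D) (F := F) a)
    (h' : g ∈ posS hC F a) : g = 1 :=
  homog_inf_UT hC a h (posS_le_UT hC a h')

theorem homog_inf_neg {a : ℕ → ℤ} {g : GL D.Idx F} (h : g ∈ homogSubgroup (D := D) (F := F) a)
    (h' : g ∈ negS hC F a) : g = 1 :=
  homog_inf_pos hC (homog_neg a h) (negS_eq (F := F) hC a ▸ h')

/-- Root elements of degree zero normalise positive degree. -/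
theorem conj_posS {a : ℕ → ℤ} {r : ℕ} (hr : r < D.nroots) (h0 : lin D a r = 0) (t : F)
    {g : GL D.Idx F} (hg : g ∈ posS hC F a) : xg hC r t * g * (xg hC r t)⁻¹ ∈ posS hC F a := by
  suffices h : posS hC F a ≤ (posS hC F a).comap (MulAut.conj (xg hC r t)).toMonoidHom from h hg
  refine (Subgroup.closure_le _).2 ?_
  rintro _ ⟨s, u, hs, hP, rfl⟩
  show xg hC r t * xg hC s u * (xg hC r t)⁻¹ ∈ posS hC F a
  have hsr : s ≠ r := by rintro rfl; omega
  have hsn : s ≠ D.neg r := by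
    rintro rfl
    have h1 := lin_neg hC a hr
    omega
  rw [show (xg hC r t)⁻¹ = xg hC r (-t) from xg_inv hC r t, mul_assoc,
    xg_comm hC hr hs hsr hsn (-t) u, ← mul_assoc, ← mul_assoc, ← xg_add hC r t (-t), add_neg_cancel,
    xg_zero hC, one_mul]
  refine mul_mem (xg_mem_RP hC hs hP u) (list_prod_mem fun x hx => ?_)
  obtain ⟨p, hp, rfl⟩ := List.mem_map.1 hx
  simp only [ChevalleyDatum.commWord, List.mem_map] at hp
  obtain ⟨c, hc, rfl⟩ := hp
  obtain ⟨i, j, _, hj, hl⟩ := lin_commTerms hC a hr hs c hc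
  refine xg_mem_RP hC (commTerms_phi hC hr hs c hc).1 (P := fun r => 0 < lin D a r) ?_ _
  rw [hl, h0, mul_zero, zero_add]
  exact mul_pos (by exact_mod_cast hj) hP

theorem conj_negS {a : ℕ → ℤ} {r : ℕ} (hr : r < D.nroots) (h0 : lin D a r = 0) (t : F)
    {g : GL D.Idx F} (hg : g ∈ negS hC F a) : xg hC r t * g * (xg hC r t)⁻¹ ∈ negS hC F a := by
  rw [negS_eq hC] at hg ⊢
  exact conj_posS hC hr (by rw [lin_negA, h0, neg_zero]) t hg

theorem zero_le_normalizer {a : ℕ → ℤ} {P : ℕ → Prop} (hP : ∀ r < D.nroots, P r → lin D a r = 0) :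
    RP hC F P ≤ Subgroup.normalizer (posS hC F a : Set (GL D.Idx F)) ⊓
      Subgroup.normalizer (negS hC F a : Set (GL D.Idx F)) := by
  refine (Subgroup.closure_le _).2 ?_
  rintro _ ⟨r, t, hr, h, rfl⟩
  constructor <;> refine Subgroup.mem_normalizer_iff.2 fun g => ⟨?_, fun hg => ?_⟩
  · exact conj_posS hC hr (hP r hr h) t
  · have := conj_posS hC hr (hP r hr h) (-t) hg
    rwa [← xg_inv hC, show (xg hC r t)⁻¹ * (xg hC r t * g * (xg hC r t)⁻¹) * (xg hC r t)⁻¹⁻¹ = g by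
      group] at this
  · exact conj_negS hC hr (hP r hr h) t
  · have := conj_negS hC hr (hP r hr h) (-t) hg
    rwa [← xg_inv hC, show (xg hC r t)⁻¹ * (xg hC r t * g * (xg hC r t)⁻¹) * (xg hC r t)⁻¹⁻¹ = g by
      group] at this

/-- Splitting of a generated subgroup along a normalised one. -/
theorem split_mem {G : Type*} [Group G] {N K : Subgroup G} (hK : K ≤ Subgroup.normalizer (N : Set G))
    {S : Set G} (hS : ∀ s ∈ S, s ∈ N ∨ s ∈ K) {g : G} (hg : g ∈ Subgroup.closure S) :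
    ∃ n ∈ N, ∃ k ∈ K, g = n * k := by
  induction hg using Subgroup.closure_induction with
  | mem x hx =>
    rcases hS x hx with h | h
    · exact ⟨x, h, 1, one_mem _, by simp⟩
    · exact ⟨1, one_mem _, x, h, by simp⟩
  | one => exact ⟨1, one_mem _, 1, one_mem _, by simp⟩
  | mul x y _ _ ihx ihy =>
    obtain ⟨n, hn, k, hk, rfl⟩ := ihx
    obtain ⟨n', hn', k', hk', rfl⟩ := ihy
    exact ⟨n * (k * n' * k⁻¹), mul_mem hn ((Subgroup.mem_normalizer_iff.1 (hK hk) n').1 hn'),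
      k * k', mul_mem hk hk', by group⟩
  | inv x _ ih =>
    obtain ⟨n, hn, k, hk, rfl⟩ := ih
    exact ⟨k⁻¹ * n⁻¹ * k, by simpa using
      (Subgroup.mem_normalizer_iff.1 (hK (inv_mem hk)) n⁻¹).1 (inv_mem hn), k⁻¹, inv_mem hk, by group⟩

/-- Positive roots of degree zero. -/
abbrev posZ (hC : Certified D T) (F : Type*) [Field F] (a : ℕ → ℤ) : Subgroup (GL D.Idx F) :=
  RP hC F fun r => 0 < T.phi r ∧ lin D a r = 0

/-- Negative roots of degree zero. -/
abbrev negZ (hC : Certified D T) (F : Type*) [Field F] (a : ℕ → ℤ) : Subgroup (GL D.Idx F) :=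
  RP hC F fun r => T.phi r < 0 ∧ lin D a r = 0

theorem U_split_deg {a : ℕ → ℤ} (hs : Sep D T a) {u : GL D.Idx F} (hu : u ∈ D.posUnipotent F) :
    ∃ p ∈ posS hC F a, ∃ k ∈ posZ hC F a, u = p * k := by
  rw [U_eq_closure hC] at hu
  refine split_mem ((zero_le_normalizer hC fun r _ h => h.2).trans inf_le_left) ?_ hu
  rintro _ ⟨r, t, hr, hp, rfl⟩
  rcases (hs r hr hp).lt_or_eq with h | h
  · exact Or.inl (xg_mem_RP hC hr h t)
  · exact Or.inr (xg_mem_RP hC hr (P := fun r => 0 < T.phi r ∧ lin D a r = 0) ⟨hp, h.symm⟩ t)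

theorem V_split_deg {a : ℕ → ℤ} (hs : Sep D T a) {v : GL D.Idx F} (hv : v ∈ D.negUnipotent F) :
    ∃ p ∈ negS hC F a, ∃ k ∈ negZ hC F a, v = p * k := by
  rw [V_eq_closure hC] at hv
  refine split_mem ((zero_le_normalizer hC fun r _ h => h.2).trans inf_le_right) ?_ hv
  rintro _ ⟨r, t, hr, hp, rfl⟩
  have h1 := hs (D.neg r) (hC.neg_lt hr) (by rw [hC.phi_neg hr]; omega)
  rw [lin_neg hC a hr] at h1
  rcases lt_or_eq_of_le (show lin D a r ≤ 0 by omega) with h | h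
  · exact Or.inl (xg_mem_RP hC hr h t)
  · exact Or.inr (xg_mem_RP hC hr (P := fun r => T.phi r < 0 ∧ lin D a r = 0) ⟨hp, h⟩ t)

theorem RP_le_homog {a : ℕ → ℤ} {P : ℕ → Prop} (hP : ∀ r < D.nroots, P r → lin D a r = 0) :
    RP hC F P ≤ homogSubgroup (D := D) (F := F) a :=
  (Subgroup.closure_le _).2 fun _ ⟨_, t, hr, h, e⟩ => e ▸ xg_mem_homog hC a hr (hP _ hr h) t

end Cfsg.Agent.ClassSquareGauss.Chev
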