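import Cfsg.Agent.Lib.ClassSquareGauss.Chev.Cell

/-!
Gauss decompositions with a prescribed torus part (Ellers–Gordeev).
-/

set_option autoImplicit false
set_option linter.unusedSectionVars false

namespace Cfsg.Agent.ClassSquareGauss.Chev

open Cfsg.Lie Cfsg.Agent.Chevalley Cfsg.Agent.Chevalley.Cert Cfsg.Agent.Chevalley.Group
  Cfsg.Agent.Chevalley.Table Cfsg.Agent.Chevalley.Unip Cfsg.Agent.Chevalley.Borel
  Cfsg.Agent.Chevalley.Graded

variable {D : ChevalleyDatum} {F : Type*} [Field F] {T : Tab}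

/-- Conjugate in the Chevalley group. -/
def Rel (g g' : GL D.Idx F) : Prop := ∃ k ∈ D.group F, g' = k * g * k⁻¹

/-- `g` has a conjugate with torus part `c`. -/
def St (g : GL D.Idx F) (c : ℕ → Fˣ) : Prop :=
  ∃ v ∈ D.negUnipotent F, ∃ u ∈ D.posUnipotent F, Rel g (v * tor D c * u)

/-- The value of `α_l` on `tor c`. -/
abbrev chi (D : ChevalleyDatum) (c : ℕ → Fˣ) (l : ℕ) : Fˣ := torChar D c (D.simple l)

theorem Rel.trans {g g' : GL D.Idx F} (h : Rel g g') {k : GL D.Idx F} (hk : k ∈ D.group F)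
    {g'' : GL D.Idx F} (e : g'' = k * g' * k⁻¹) : Rel g g'' := by
  obtain ⟨a, ha, rfl⟩ := h
  exact ⟨k * a, mul_mem hk ha, by rw [e]; group⟩

theorem torChar_mul (c c' : ℕ → Fˣ) (r : ℕ) :
    torChar D (c * c') r = torChar D c r * torChar D c' r := by
  simp only [torChar, Pi.mul_apply, mul_zpow, Finset.prod_mul_distrib]

theorem torChar_inv (c : ℕ → Fˣ) (r : ℕ) : torChar D c⁻¹ r = (torChar D c r)⁻¹ := by
  simp only [torChar, Pi.inv_apply, inv_zpow, Finset.prod_inv_distrib]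

theorem torChar_single {i : ℕ} (hi : i < D.rank) (S : Fˣ) (r : ℕ) :
    torChar D (single1 i S) r = S ^ D.cartan i r := by
  rw [torChar, Finset.prod_eq_single i]
  · simp [single1]
  · intro j _ hj; simp [single1, hj]
  · intro h; exact absurd (Finset.mem_range.2 hi) h

variable (hC : Certified D T)
include hC

theorem U_le_G {u : GL D.Idx F} (hu : u ∈ D.posUnipotent F) : u ∈ D.group F := by
  rw [← U_sup_V hC]; exact Subgroup.mem_sup_left hu

theorem V_le_G {u : GL D.Idx F} (hu : u ∈ D.negUnipotent F) : u ∈ D.group F := by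
  rw [← U_sup_V hC]; exact Subgroup.mem_sup_right hu

theorem torChar_neg (c : ℕ → Fˣ) {r : ℕ} (hr : r < D.nroots) :
    torChar D c (D.neg r) = (torChar D c r)⁻¹ := by
  rw [torChar, torChar, ← Finset.prod_inv_distrib]
  exact Finset.prod_congr rfl fun j hj => by rw [hC.cartan_neg hr (Finset.mem_range.1 hj), zpow_neg]

theorem torChar_reflect (c : ℕ → Fˣ) {i r : ℕ} (hi : i < D.rank) (hr : r < D.nroots) :
    torChar D c (D.reflectRoot i r) = torChar D c r * (chi D c i) ^ (-D.cartan i r) := by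
  rw [torChar, torChar, chi, torChar, ← Finset.prod_zpow, ← Finset.prod_mul_distrib]
  refine Finset.prod_congr rfl fun j hj => ?_
  rw [hC.cartan_reflect hi (Finset.mem_range.1 hj) hr, ← zpow_mul, ← zpow_add]
  congr 1
  ring

theorem torChar_eq_one {c : ℕ → Fˣ} (h : ∀ l < D.rank, chi D c l = 1) :
    ∀ r < D.nroots, torChar D c r = 1 := by
  have hpos : ∀ r, r < D.nroots → 0 < T.phi r → torChar D c r = 1 := by
    intro r
    induction r using Nat.strong_induction_on with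
    | _ r ih =>
      intro hr hp
      obtain ⟨i, hi, e | ⟨_, -, hp', hlt⟩⟩ := descend hC hr hp
      · rw [e]; exact h i hi
      · have h1 := ih _ hlt (hC.reflect_lt hi hr) hp'
        rwa [torChar_reflect hC c hi hr, h i hi, one_zpow, mul_one] at h1
  intro r hr
  by_cases hp : 0 < T.phi r
  · exact hpos r hr hp
  · have h1 := hC.phi_ne_zero hr
    have := hpos _ (hC.neg_lt hr) (by rw [hC.phi_neg hr]; omega)
    rwa [torChar_neg hC c hr, inv_eq_one] at this

theorem chi_up (c : ℕ → Fˣ) {i : ℕ} (hi : i < D.rank) (S : Fˣ) (l : ℕ) :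
    chi D (c * single1 i S) l = chi D c l * S ^ D.cartan i (D.simple l) := by
  rw [chi, torChar_mul, torChar_single hi]

variable {nv : ℕ → ℕ → ℤ} (hn : NodeOK D T nv)
include hn

theorem move_left {g : GL D.Idx F} {i : ℕ} (hi : i < D.rank) {a : F} (ha : a ≠ 0)
    {w : GL D.Idx F} (hw : w ∈ negS hC F (nv i)) (c : ℕ → Fˣ) {u : GL D.Idx F}
    (hu : u ∈ D.posUnipotent F) (hg : Rel g (Y hC i a * w * tor D c * u)) (S : Fˣ) :
    St g (c * single1 i S) := by
  obtain ⟨r, hr⟩ : ∃ r, r = ((S : F) - 1) / a := ⟨_, rfl⟩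
  have hS : (S : F) = 1 + r * a := by rw [hr]; field_simp; ring
  have e := X_Y hC hi S hS
  refine ⟨_, mul_mem (Y_mem_V hC hi (a / S))
    (tor_conj_V hC (single1 i S) (negS_V hC hn hi (X_conj_neg hC hn hi (r / S) hw))), _,
    mul_mem (mul_mem (tor_conj_U' hC c (X_mem_U hC hi (r / S))) hu)
      (inv_mem (X_mem_U hC hi r)), hg.trans (U_le_G hC (X_mem_U hC hi r)) ?_⟩
  rw [mul_comm c, ← tor_mul]
  calc _ = (Y hC i (a / S) * tor D (single1 i S) * X hC i (r / S)) * w * tor D c * u *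
        (X hC i r)⁻¹ := by group
    _ = X hC i r * Y hC i a * w * tor D c * u * (X hC i r)⁻¹ := by rw [← e]
    _ = _ := by group

theorem move_right {g : GL D.Idx F} {i : ℕ} (hi : i < D.rank) {b : F} (hb : b ≠ 0)
    {v : GL D.Idx F} (hv : v ∈ D.negUnipotent F) (c : ℕ → Fˣ) {p : GL D.Idx F}
    (hp : p ∈ posS hC F (nv i)) (hg : Rel g (v * tor D c * (p * X hC i b))) (S : Fˣ) :
    St g (c * single1 i S) := by
  obtain ⟨r, hr⟩ : ∃ r, r = ((S : F) - 1) / b := ⟨_, rfl⟩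
  have hS : (S : F) = 1 + b * r := by rw [hr]; field_simp; ring
  have e := X_Y hC hi S hS
  have hp' : (Y hC i (r / S))⁻¹ * p * Y hC i (r / S) ∈ posS hC F (nv i) := by
    have := Y_conj_pos hC hn hi (-(r / S)) hp
    rwa [Y, ← xg_inv hC, inv_inv] at this
  refine ⟨_, mul_mem (mul_mem (inv_mem (Y_mem_V hC hi r)) hv) (tor_conj_V hC c (Y_mem_V hC hi (r / S))),
    _, mul_mem (tor_conj_U' hC (single1 i S) (posS_U hC hn hi hp')) (X_mem_U hC hi (b / S)),
    hg.trans (inv_mem (V_le_G hC (Y_mem_V hC hi r))) ?_⟩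
  rw [← tor_mul]
  calc _ = (Y hC i r)⁻¹ * v * tor D c * p *
        (Y hC i (r / S) * tor D (single1 i S) * X hC i (b / S)) := by group
    _ = (Y hC i r)⁻¹ * v * tor D c * p * (X hC i b * Y hC i r) := by rw [← e]
    _ = _ := by group

/-- A node which is not centralised can take any parameter. -/
theorem move {g : GL D.Idx F} {c : ℕ → Fˣ} (h : St g c) {i : ℕ} (hi : i < D.rank)
    (hχ : chi D c i ≠ 1) (S : Fˣ) : St g (c * single1 i S) := by
  obtain ⟨v, hv, u, hu, hg⟩ := h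
  obtain ⟨a, w, hw, rfl⟩ := V_node hC hn hi hv
  by_cases ha : a = 0
  swap
  · exact move_left hC hn hi ha hw c hu hg S
  obtain ⟨p, hp, b, rfl⟩ := U_node hC hn hi hu
  by_cases hb : b = 0
  swap
  · exact move_right hC hn hi hb hv c hp hg S
  have ea : Y hC i a = 1 := by rw [ha]; exact xg_zero hC _
  have eb : X hC i b = 1 := by rw [hb]; exact xg_zero hC _
  rw [ea, one_mul, eb, mul_one] at hg
  obtain ⟨z, hz⟩ : ∃ z : F, z = 1 - (((chi D c i)⁻¹ : Fˣ) : F) := ⟨_, rfl⟩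
  have hz0 : z ≠ 0 := by
    intro h0
    apply hχ
    rw [hz, sub_eq_zero, eq_comm, Units.val_eq_one, inv_eq_one] at h0
    exact h0
  have e : tor D c * (Y hC i (1 : F))⁻¹ = Y hC i (-(((chi D c i)⁻¹ : Fˣ) : F)) * tor D c := by
    rw [Y, Y, xg_inv hC, tor_conj_x' hC c (hC.neg_lt (hC.simple_lt hi)),
      torChar_neg hC c (hC.simple_lt hi), mul_neg, mul_one]
  have hz' : Y hC i (1 : F) * Y hC i (-(((chi D c i)⁻¹ : Fˣ) : F)) = Y hC i z := by
    rw [Y, Y, Y, ← xg_add hC, hz, sub_eq_add_neg]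
  refine move_left hC hn hi hz0 (w := (Y hC i z)⁻¹ * (Y hC i (1 : F) * w * (Y hC i (1 : F))⁻¹) * Y hC i z) ?_ c
    (u := Y hC i (1 : F) * p * (Y hC i (1 : F))⁻¹) (posS_U hC hn hi (Y_conj_pos hC hn hi 1 hp))
    (hg.trans (xg_mem_group hC (hC.neg_lt (hC.simple_lt hi)) (1 : F)) ?_) S
  · have := Y_conj_neg hC hn hi (-z) (Y_conj_neg hC hn hi 1 hw)
    rwa [show Y hC i (-z) = (Y hC i z)⁻¹ from (xg_inv hC _ z).symm, inv_inv] at this
  · calc _ = Y hC i (1 : F) * w * (Y hC i (1 : F))⁻¹ * Y hC i z * tor D c * (Y hC i (1 : F) * p * (Y hC i (1 : F))⁻¹) := by group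
      _ = Y hC i (1 : F) * w * (Y hC i (1 : F))⁻¹ * Y hC i (1 : F) * (Y hC i (-(((chi D c i)⁻¹ : Fˣ) : F)) * tor D c) *
            (Y hC i (1 : F) * p * (Y hC i (1 : F))⁻¹) := by rw [← hz']; group
      _ = _ := by rw [← e]; group

theorem nL_cons (i : ℕ) (L : List ℕ) :
    nL hC F (i :: L) = ng hC (D.simple i) 1 * nL hC F L := by simp [nL]

theorem cell_group {g : GL D.Idx F} (hg : g ∈ D.group F) : ∃ c, St g c := by
  obtain ⟨a, ⟨ha, -⟩, b, ⟨hb, -⟩, c, -, u, ⟨hu, -⟩, rfl⟩ :=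
    cell_all hC hn (fun _ => True) (group_le_MS hC hg)
  refine ⟨c, b, hb, u * a, mul_mem hu ha, a⁻¹, inv_mem (U_le_G hC ha), ?_⟩
  group

theorem first_move {g : GL D.Idx F} (hg : g ∈ D.group F) (h1 : g ≠ 1) :
    ∃ c, St g c ∧ ∃ i < D.rank, ∀ S, St g (c * single1 i S) := by
  obtain ⟨c, hc⟩ := cell_group hC hn hg
  by_cases hχ : ∃ l < D.rank, chi D c l ≠ 1
  · obtain ⟨l, hl, hl'⟩ := hχ
    exact ⟨c, hc, l, hl, move hC hn hc hl hl'⟩
  push Not at hχ
  have htor : tor D c = (1 : GL D.Idx F) := by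
    rw [← tor_one (D := D) (F := F)]
    exact dg_congr fun r hr => by rw [torChar_eq_one hC hχ r hr, torChar_eq_one hC (by simp [chi, torChar]) r hr]
  obtain ⟨v, hv, u, hu, hrel⟩ := hc
  rw [htor, mul_one] at hrel
  by_contra hcon
  have stuck : ∀ L : List ℕ, (∀ i ∈ L, i < D.rank) →
      nL hC F L * v * (nL hC F L)⁻¹ ∈ D.negUnipotent F ∧
      nL hC F L * u * (nL hC F L)⁻¹ ∈ D.posUnipotent F ∧
      Rel g ((nL hC F L * v * (nL hC F L)⁻¹) * (nL hC F L * u * (nL hC F L)⁻¹)) := by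
    intro L
    induction L with
    | nil => intro _; simp [nL, hv, hu, hrel]
    | cons i L ih =>
      intro hL
      have hi := hL i List.mem_cons_self
      obtain ⟨h1, h2, h3⟩ := ih fun j hj => hL j (List.mem_cons_of_mem i hj)
      obtain ⟨a, w, hw, ev⟩ := V_node hC hn hi h1
      obtain ⟨p, hp, b, eu⟩ := U_node hC hn hi h2
      rw [ev, eu] at h3
      have hnot : ∀ {c' : ℕ → Fˣ}, St g c' → ¬ ∀ S, St g (c' * single1 i S) :=
        fun {c'} hc' h => hcon ⟨c', hc', i, hi, h⟩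
      have hst : St g (1 : ℕ → Fˣ) := ⟨_, mul_mem (Y_mem_V hC hi a) (negS_V hC hn hi hw), _,
        mul_mem (posS_U hC hn hi hp) (X_mem_U hC hi b), by rw [tor_one, mul_one]; exact h3⟩
      have ha : a = 0 := by
        by_contra ha
        exact hnot hst (move_left hC hn hi ha hw 1 (mul_mem (posS_U hC hn hi hp) (X_mem_U hC hi b))
          (by rw [tor_one, mul_one]; exact h3))
      have hb : b = 0 := by
        by_contra hb
        exact hnot hst (move_right hC hn hi hb (mul_mem (Y_mem_V hC hi a) (negS_V hC hn hi hw)) 1 hp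
          (by rw [tor_one, mul_one]; exact h3))
      rw [ha, show Y hC i (0 : F) = 1 from xg_zero hC _, one_mul] at ev h3
      rw [hb, show X hC i (0 : F) = 1 from xg_zero hC _, mul_one] at eu h3
      obtain ⟨n, hn'⟩ : ∃ n, n = ng hC (D.simple i) (1 : F) := ⟨_, rfl⟩
      have hN : ∀ {x}, x ∈ negS hC F (nv i) → n * x * n⁻¹ ∈ negS hC F (nv i) := fun {x} hx => by
        have := X_conj_neg hC hn hi 1 (Y_conj_neg hC hn hi (-(1 : F)⁻¹) (X_conj_neg hC hn hi 1 hx))
        rw [hn', ng]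
        simpa [mul_assoc] using this
      have hP : ∀ {x}, x ∈ posS hC F (nv i) → n * x * n⁻¹ ∈ posS hC F (nv i) := fun {x} hx => by
        have := X_conj_pos hC hn hi 1 (Y_conj_pos hC hn hi (-(1 : F)⁻¹) (X_conj_pos hC hn hi 1 hx))
        rw [hn', ng]
        simpa [mul_assoc] using this
      have e : ∀ x, nL hC F (i :: L) * x * (nL hC F (i :: L))⁻¹ =
          n * (nL hC F L * x * (nL hC F L)⁻¹) * n⁻¹ := fun x => by
        rw [nL_cons hC hn, ← hn']; group
      rw [e, e, ev, eu]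
      refine ⟨negS_V hC hn hi (hN hw), posS_U hC hn hi (hP hp), h3.trans (hn' ▸ ng_mem_group hC (hC.simple_lt hi) 1) ?_⟩
      group
  obtain ⟨L, hL, hneg⟩ := exists_longest hC
  obtain ⟨h2, h3, -⟩ := stuck L hL
  have flipV : nL hC F L * v * (nL hC F L)⁻¹ ∈ D.posUnipotent F := by
    suffices h : D.negUnipotent F ≤ (D.posUnipotent F).comap (MulAut.conj (nL hC F L)).toMonoidHom
      from h hv
    rw [V_eq_closure hC, Subgroup.closure_le]
    rintro _ ⟨r, t, hr, hp, rfl⟩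
    obtain ⟨η, -, hη⟩ := nL_conj_x (F := F) hC hL hr
    show nL hC F L * xg hC r t * (nL hC F L)⁻¹ ∈ D.posUnipotent F
    rw [hη]
    refine xg_mem_U hC (wL_lt hC hL hr) ?_ _
    have h4 := hneg _ (hC.neg_lt hr) (by rw [hC.phi_neg hr]; omega)
    rw [wL_neg hC hL hr, hC.phi_neg (wL_lt hC hL hr)] at h4
    omega
  have flipU : nL hC F L * u * (nL hC F L)⁻¹ ∈ D.negUnipotent F := by
    suffices h : D.posUnipotent F ≤ (D.negUnipotent F).comap (MulAut.conj (nL hC F L)).toMonoidHom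
      from h hu
    rw [U_eq_closure hC, Subgroup.closure_le]
    rintro _ ⟨r, t, hr, hp, rfl⟩
    obtain ⟨η, -, hη⟩ := nL_conj_x (F := F) hC hL hr
    show nL hC F L * xg hC r t * (nL hC F L)⁻¹ ∈ D.negUnipotent F
    rw [hη]
    exact xg_mem_V hC (wL_lt hC hL hr) (hneg r hr hp) _
  have hv1 : v = 1 := conj_eq_one_iff.1 (U_inf_V hC flipV h2)
  have hu1 : u = 1 := conj_eq_one_iff.1 (U_inf_V hC h3 flipU)
  obtain ⟨k, -, hk⟩ := hrel
  rw [hv1, hu1, one_mul, eq_comm, conj_eq_one_iff] at hk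
  exact h1 hk

end Cfsg.Agent.ClassSquareGauss.Chev
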