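import Cfsg.Agent.Lib.ClassSquareGauss.Chev.Prescribe

/-!
A regular semisimple torus part has no fixed points on the radicals.
-/

set_option autoImplicit false
set_option linter.unusedSectionVars false

namespace Cfsg.Agent.ClassSquareGauss.Chev

open Cfsg.Lie Cfsg.Agent.Chevalley Cfsg.Agent.Chevalley.Cert Cfsg.Agent.Chevalley.Group
  Cfsg.Agent.Chevalley.Table Cfsg.Agent.Chevalley.Unip Cfsg.Agent.Chevalley.Borel
  Cfsg.Agent.Chevalley.Graded

variable {D : ChevalleyDatum} {F : Type*} [Field F] {T : Tab}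

/-- The twisting map is onto. -/
theorem twist_mem {G : Type*} [Group G] [Finite G] (N : Subgroup G) {x : G}
    (hn : ∀ v ∈ N, x * v * x⁻¹ ∈ N) (hf : ∀ v ∈ N, x * v = v * x → v = 1) {v : G} (hv : v ∈ N) :
    ∃ w ∈ N, v * x = w * x * w⁻¹ := by
  let f : N → N := fun u => ⟨(u : G) * (x * (u : G) * x⁻¹)⁻¹, N.mul_mem u.2 (N.inv_mem (hn u u.2))⟩
  have hinj : Function.Injective f := by
    intro a b hab
    have h : (a : G) * (x * (a : G) * x⁻¹)⁻¹ = (b : G) * (x * (b : G) * x⁻¹)⁻¹ :=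
      congrArg Subtype.val hab
    have h1 : (b : G)⁻¹ * a = 1 := by
      refine hf _ (N.mul_mem (N.inv_mem b.2) a.2) ?_
      calc x * ((b : G)⁻¹ * a) = x * (b : G)⁻¹ * x⁻¹ * ((a : G) * (x * (a : G) * x⁻¹)⁻¹)⁻¹ *
            (a : G) * x := by group
        _ = x * (b : G)⁻¹ * x⁻¹ * ((b : G) * (x * (b : G) * x⁻¹)⁻¹)⁻¹ * (a : G) * x := by rw [h]
        _ = (b : G)⁻¹ * a * x := by group
    exact Subtype.ext (inv_mul_eq_one.1 h1).symm
  obtain ⟨u, hu⟩ := Finite.surjective_of_injective hinj ⟨v, hv⟩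
  have hu' : (u : G) * (x * (u : G) * x⁻¹)⁻¹ = v := congrArg Subtype.val hu
  exact ⟨u, u.2, by rw [← hu']; group⟩

variable (hC : Certified D T)
include hC

theorem prodX_conj (c : ℕ → Fˣ) {L : List ℕ} (hL : ∀ r ∈ L, r < D.nroots) (f : ℕ → F) :
    tor D c * prodX hC L f * (tor D c)⁻¹ = prodX hC L fun r => (torChar D c r : F) * f r := by
  induction L with
  | nil => simp [prodX]
  | cons r L ih =>
    have h1 := tor_conj_x hC c r (f r) (hL r List.mem_cons_self)
    have h2 := ih fun s hs => hL s (List.mem_cons_of_mem r hs)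
    simp only [prodX, List.map_cons, List.prod_cons] at h2 ⊢
    rw [← h1, ← h2]
    group

theorem fix_U (c : ℕ → Fˣ) {u : GL D.Idx F} (hu : u ∈ D.posUnipotent F)
    (he : tor D c * u = u * tor D c) : u ∈ RP hC F fun r => torChar D c r = 1 := by
  obtain ⟨f, rfl⟩ := exists_prodX hC hu
  have h1 := prodX_conj hC c (fun r hr => ((mem_posRoots hC).1 hr).1) f
  rw [he, mul_inv_cancel_right] at h1
  have h2 := prodX_inj hC (posRoots_sorted (D := D)) (fun r hr => (mem_posRoots hC).1 hr) h1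
  refine list_prod_mem fun g hg => ?_
  obtain ⟨r, hr, rfl⟩ := List.mem_map.1 hg
  by_cases h : torChar D c r = 1
  · exact xg_mem_RP hC ((mem_posRoots hC).1 hr).1 (P := fun r => torChar D c r = 1) h _
  · have h3 := h2 r hr
    have h4 : ((torChar D c r : F) - 1) * f r = 0 := by linear_combination -h3
    rcases mul_eq_zero.1 h4 with h5 | h5
    · exact absurd (Units.val_eq_one.1 (sub_eq_zero.1 h5)) h
    · rw [h5, xg_zero hC]; exact one_mem _

theorem nL_conj_tor {L : List ℕ} (hL : ∀ i ∈ L, i < D.rank) (c : ℕ → Fˣ) :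
    ∃ c' : ℕ → Fˣ, nL hC F L * tor D c * (nL hC F L)⁻¹ = tor D c' ∧
      ∀ s < D.nroots, torChar D c' s = torChar D c (wL D L.reverse s) := by
  induction L with
  | nil => exact ⟨c, by simp [nL], fun s _ => rfl⟩
  | cons i L ih =>
    have hi := hL i List.mem_cons_self
    obtain ⟨c1, h1, h1'⟩ := ih fun j hj => hL j (List.mem_cons_of_mem i hj)
    obtain ⟨c2, h2, h2'⟩ := ng_conj_tor hC hi c1
    refine ⟨c2, ?_, fun s hs => ?_⟩
    · rw [← h2, ← h1, show nL hC F (i :: L) = ng hC (D.simple i) 1 * nL hC F L by simp [nL]]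
      group
    · rw [h2' s hs, h1' _ (hC.reflect_lt hi hs), List.reverse_cons, wL_append]
      rfl

theorem fix_V (c : ℕ → Fˣ) {v : GL D.Idx F} (hv : v ∈ D.negUnipotent F)
    (he : tor D c * v = v * tor D c) : v ∈ RP hC F fun r => torChar D c r = 1 := by
  obtain ⟨L, hL, hneg⟩ := exists_longest hC
  obtain ⟨c', hc', hχ⟩ := nL_conj_tor (F := F) hC hL c
  obtain ⟨n, hn⟩ : ∃ n, n = nL hC F L := ⟨_, rfl⟩
  rw [← hn] at hc'
  have hU : n * v * n⁻¹ ∈ D.posUnipotent F := by
    suffices h : D.negUnipotent F ≤ (D.posUnipotent F).comap (MulAut.conj n).toMonoidHom from h hv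
    rw [V_eq_closure hC, Subgroup.closure_le]
    rintro _ ⟨r, t, hr, hp, rfl⟩
    obtain ⟨η, -, hη⟩ := nL_conj_x (F := F) hC hL hr
    show n * xg hC r t * n⁻¹ ∈ D.posUnipotent F
    rw [hn, hη]
    refine xg_mem_U hC (wL_lt hC hL hr) ?_ _
    have h4 := hneg _ (hC.neg_lt hr) (by rw [hC.phi_neg hr]; omega)
    rw [wL_neg hC hL hr, hC.phi_neg (wL_lt hC hL hr)] at h4
    omega
  have h1 := fix_U hC c' hU (by
    rw [← hc']
    calc _ = n * (tor D c * v) * n⁻¹ := by group
      _ = _ := by rw [he]; group)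
  suffices h : RP hC F (fun r => torChar D c' r = 1) ≤
      (RP hC F fun r => torChar D c r = 1).map (MulAut.conj n).toMonoidHom by
    obtain ⟨w, hw, e⟩ := h h1
    have e' : n * w * n⁻¹ = n * v * n⁻¹ := e
    rwa [← mul_left_cancel (mul_right_cancel e')]
  refine (Subgroup.closure_le _).2 ?_
  rintro _ ⟨r, t, hr, hP, rfl⟩
  have hLr : ∀ i ∈ L.reverse, i < D.rank := fun i hi => hL i (List.mem_reverse.1 hi)
  obtain ⟨η, hη0, hη⟩ := nL_conj_x (F := F) hC hL (wL_lt hC hLr hr)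
  refine ⟨xg hC (wL D L.reverse r) (η⁻¹ * t),
    xg_mem_RP hC (wL_lt hC hLr hr) (P := fun r => torChar D c r = 1) (by rw [← hχ r hr]; exact hP) _, ?_⟩
  show n * xg hC _ _ * n⁻¹ = _
  rw [hn, hη, mul_inv_cancel_left₀ hη0]
  congr 1
  simpa using wL_reverse hC hLr hr

variable {a : ℕ → ℤ} (ha : Sep D T a) {s : ℕ → Fˣ}
  (hs : ∀ r < D.nroots, 0 < lin D a r → torChar D s r ≠ 1)
include ha hs

theorem fix_le_homog : RP hC F (fun r => torChar D s r = 1) ≤ homogSubgroup (D := D) (F := F) a := by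
  refine RP_le_homog hC fun r hr h => ?_
  rcases lt_trichotomy (lin D a r) 0 with h1 | h1 | h1
  · exfalso
    refine hs _ (hC.neg_lt hr) (by rw [lin_neg hC a hr]; omega) ?_
    rw [torChar_neg hC s hr, h, inv_one]
  · exact h1
  · exact absurd h (hs r hr h1)

theorem fix_posS {u : GL D.Idx F} (hu : u ∈ posS hC F a) (he : tor D s * u = u * tor D s) : u = 1 :=
  homog_inf_pos hC (fix_le_homog hC ha hs (fix_U hC s (posS_le_U hC ha hu) he)) hu

theorem fix_negS {u : GL D.Idx F} (hu : u ∈ negS hC F a) (he : tor D s * u = u * tor D s) : u = 1 :=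
  homog_inf_neg hC (fix_le_homog hC ha hs (fix_V hC s (negS_le_V hC ha hu) he)) hu

end Cfsg.Agent.ClassSquareGauss.Chev
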