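import Cfsg.Agent.Lib.ClassSquareGauss.Chev.Assemble
import Cfsg.Agent.Lib.Chevalley.Types.E6

/-! Class square for type E6: degree vectors, blocks and exponents, checked by the kernel. -/

set_option autoImplicit false
set_option linter.unusedSectionVars false
set_option maxRecDepth 10000
set_option maxHeartbeats 2000000

namespace Cfsg.Agent.ClassSquareGauss.Chev.E6

open Cfsg.Lie Cfsg.Agent.Chevalley Cfsg.Agent.Chevalley.Cert Cfsg.Agent.Chevalley.Graded Cfsg.Agent.Chevalley.Table Cfsg.Agent.Chevalley.Group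

abbrev hC : Certified chevE6 Data.E6.tab := Types.E6.certified

/-- Degrees of the nodes. -/
def nv (i : ℕ) : ℕ → ℤ := vec (([
  [20, 30, 40, 57, 41, 22],
  [7, 9, 13, 18, 13, 7],
  [19, 27, 35, 51, 37, 20],
  [6, 8, 11, 15, 11, 6],
  [20, 27, 37, 51, 35, 19],
  [22, 30, 41, 57, 40, 20]
] : List (List ℤ)).getD i [])

theorem node_ok : NodeOK chevE6 Data.E6.tab nv := by unfold NodeOK Sep; decide +kernel

/-- The tree. -/
def par (i : ℕ) : ℕ := ([2, 3, 3, 4, 5] : List ℕ).getD i 0

theorem tree_ok : TreeOK chevE6 par := by unfold TreeOK; decide +kernel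

/-- The longest element. -/
def L0 : List ℕ := [0, 1, 2, 0, 3, 1, 2, 0, 3, 2, 4, 3, 1, 2, 0, 3, 2, 4, 3, 1, 5, 4, 3, 1, 2, 0, 3, 2, 4, 3, 1, 5, 4, 3, 2, 0]

theorem L0_lt : ∀ i ∈ L0, i < (chevE6).rank := by decide +kernel

/-- The Levi subgroup of the nodes [3, 1]. -/
noncomputable def lev0 : LevData where
  m := 2
  nd := ![3, 1]
  b := ![2, 1, 0]
  d := ![1, -1, 1]
  ents := [⟨24, 2, 0, 1, [1, 3], 3⟩,
    ⟨25, 2, 1, 1, [1], 1⟩,
    ⟨32, 1, 0, 1, [3], 3⟩,
    ⟨39, 0, 1, 1, [], 3⟩,
    ⟨46, 1, 2, 1, [], 1⟩,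
    ⟨47, 0, 2, 1, [1], 3⟩]
  wt := ![0, 0 - (Data.E6.tab).phi 39, 0 - (Data.E6.tab).phi 39 - (Data.E6.tab).phi 46]
  dg := vec [5, 6, 9, 12, 9, 5]
  lw := [3, 1, 3]
  f := 2

theorem lev0_ok : LevOK chevE6 Data.E6.tab lev0 where
  nd_lt := by decide +kernel
  sep := by decide +kernel
  dg_nd := by decide +kernel
  wf := by decide +kernel
  ents_ok := by decide +kernel
  pos_ents := by decide +kernel
  neg_ents := by decide +kernel
  off := by decide +kernel
  up := by decide +kernel
  dn := by decide +kernel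
  lw_ok := by decide +kernel
  wts := by decide +kernel
  fdet := by decide +kernel

theorem lev0_flip : ∀ k : Fin (lev0).m, wL chevE6 L0 ((chevE6).neg ((chevE6).simple ((lev0).nd k))) = (chevE6).simple ((lev0).nd k) := by
  decide +kernel

/-- The Levi subgroup of the nodes [1]. -/
noncomputable def lev1 : LevData where
  m := 1
  nd := ![1]
  b := ![1, 0]
  d := ![1, -1]
  ents := [⟨25, 1, 0, 1, [1], 1⟩,
    ⟨46, 0, 1, 1, [], 1⟩]
  wt := ![0, 0 - (Data.E6.tab).phi 46]
  dg := vec [7, 9, 13, 18, 13, 7]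
  lw := [1]
  f := 3

theorem lev1_ok : LevOK chevE6 Data.E6.tab lev1 where
  nd_lt := by decide +kernel
  sep := by decide +kernel
  dg_nd := by decide +kernel
  wf := by decide +kernel
  ents_ok := by decide +kernel
  pos_ents := by decide +kernel
  neg_ents := by decide +kernel
  off := by decide +kernel
  up := by decide +kernel
  dn := by decide +kernel
  lw_ok := by decide +kernel
  wts := by decide +kernel
  fdet := by decide +kernel

theorem lev1_flip : ∀ k : Fin (lev1).m, wL chevE6 L0 ((chevE6).neg ((chevE6).simple ((lev1).nd k))) = (chevE6).simple ((lev1).nd k) := by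
  decide +kernel

/-- The Levi subgroup of the nodes []. -/
noncomputable def lev2 : LevData where
  m := 0
  nd := ![]
  b := ![0]
  d := ![1]
  ents := []
  wt := ![0]
  dg := vec [8, 11, 15, 21, 15, 8]
  lw := []
  f := 0

theorem lev2_ok : LevOK chevE6 Data.E6.tab lev2 where
  nd_lt := by decide +kernel
  sep := by decide +kernel
  dg_nd := by decide +kernel
  wf := by decide +kernel
  ents_ok := by decide +kernel
  pos_ents := by decide +kernel
  neg_ents := by decide +kernel
  off := by decide +kernel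
  up := by decide +kernel
  dn := by decide +kernel
  lw_ok := by decide +kernel
  wts := by decide +kernel
  fdet := by decide +kernel

theorem lev2_flip : ∀ k : Fin (lev2).m, wL chevE6 L0 ((chevE6).neg ((chevE6).simple ((lev2).nd k))) = (chevE6).simple ((lev2).nd k) := by
  decide +kernel

theorem case9 : CaseOK chevE6 lev0 L0 (vec [4, 6, 1, 4, 1, 4]) 8 := by
  unfold CaseOK; decide +kernel

theorem case11 : CaseOK chevE6 lev1 L0 (vec [1, 7, 9, 4, 9, 1]) 10 := by
  unfold CaseOK; decide +kernel

/-- A regular cocharacter. -/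
def big : ℕ → ℤ := vec [8, 11, 15, 21, 15, 8]

theorem big_ok : ∀ r < (chevE6).nroots, 0 < (Data.E6.tab).phi r → 0 < lin chevE6 big r ∧ lin chevE6 big r ≤ 11 := by decide +kernel

theorem big_rev : ∀ r < (chevE6).nroots, lin chevE6 big (wL chevE6 L0.reverse r) + lin chevE6 big r = 0 := by
  decide +kernel

variable {F : Type*} [Field F] [Fintype F]

theorem rank_pos : 1 ≤ (chevE6).rank := by decide +kernel

theorem exists_class (hF : 9 ≤ Fintype.card F) : ∃ c : (chevE6).group F, ∀ g : (chevE6).group F,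
    ∃ u v : (chevE6).group F, g = (u * c * u⁻¹) * (v * c * v⁻¹) := by
  rcases Nat.lt_or_ge 11 (Fintype.card F - 1) with h | h
  · exact class_of_case hC node_ok tree_ok hF rank_pos lev2_ok L0_lt lev2_flip (a := big) (M := Fintype.card F - 1) rfl
      (case_of_bound hC node_ok tree_ok rfl (lev2_ok.sep) big_rev big_ok (by omega))
  · have hq : Fintype.card F = 9 ∨ Fintype.card F = 11 := by
      have hle : Fintype.card F ≤ 12 := by omega
      have hpp : IsPrimePow (Fintype.card F) := Fintype.isPrimePow_card_of_field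
      generalize Fintype.card F = q at hF hle hpp ⊢
      revert hpp
      interval_cases q <;> decide +kernel
    rcases hq with h | h
    · exact class_of_case hC node_ok tree_ok hF rank_pos lev0_ok L0_lt lev0_flip (by rw [h]) case9
    · exact class_of_case hC node_ok tree_ok hF rank_pos lev1_ok L0_lt lev1_flip (by rw [h]) case11

end Cfsg.Agent.ClassSquareGauss.Chev.E6
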