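import Cfsg.Agent.Lib.ClassSquareGauss.Chev.Assemble
import Cfsg.Agent.Lib.Chevalley.Types.E7

/-! Class square for type E7: degree vectors, blocks and exponents, checked by the kernel. -/

set_option autoImplicit false
set_option linter.unusedSectionVars false
set_option maxRecDepth 10000
set_option maxHeartbeats 2000000

namespace Cfsg.Agent.ClassSquareGauss.Chev.E7

open Cfsg.Lie Cfsg.Agent.Chevalley Cfsg.Agent.Chevalley.Cert Cfsg.Agent.Chevalley.Graded Cfsg.Agent.Chevalley.Table Cfsg.Agent.Chevalley.Group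

abbrev hC : Certified chevE7 Data.E7.tab := Types.E7.certified

/-- Degrees of the nodes. -/
def nv (i : ℕ) : ℕ → ℤ := vec (([
  [30, 45, 60, 88, 69, 48, 25],
  [15, 21, 29, 42, 33, 23, 12],
  [28, 41, 54, 80, 63, 44, 23],
  [26, 37, 50, 72, 57, 40, 21],
  [14, 20, 27, 39, 30, 21, 11],
  [30, 43, 58, 84, 65, 44, 23],
  [16, 23, 31, 45, 35, 24, 12]
] : List (List ℤ)).getD i [])

theorem node_ok : NodeOK chevE7 Data.E7.tab nv := by unfold NodeOK Sep; decide +kernel

/-- The tree. -/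
def par (i : ℕ) : ℕ := ([2, 3, 3, 4, 5, 6] : List ℕ).getD i 0

theorem tree_ok : TreeOK chevE7 par := by unfold TreeOK; decide +kernel

/-- The longest element. -/
def L0 : List ℕ := [0, 1, 2, 0, 3, 1, 2, 0, 3, 2, 4, 3, 1, 2, 0, 3, 2, 4, 3, 1, 5, 4, 3, 1, 2, 0, 3, 2, 4, 3, 1, 5, 4, 3, 2, 0, 6, 5, 4, 3, 1, 2, 0, 3, 2, 4, 3, 1, 5, 4, 3, 2, 0, 6, 5, 4, 3, 1, 2, 3, 4, 5, 6]

theorem L0_lt : ∀ i ∈ L0, i < (chevE7).rank := by decide +kernel

theorem L0_neg : ∀ r < (chevE7).nroots, wL chevE7 L0.reverse r = (chevE7).neg r :=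
  neg_of_tab hC L0_lt (by decide +kernel)

/-- The Levi subgroup of the nodes [2, 3, 1]. -/
noncomputable def lev0 : LevData where
  m := 3
  nd := ![2, 3, 1]
  b := ![17, 11, 8, 4]
  d := ![1, -1, 1, -1]
  ents := [⟨42, 3, 0, 1, [1, 3, 2], 2⟩,
    ⟨46, 3, 1, 1, [1, 3], 3⟩,
    ⟨47, 3, 2, 1, [1], 1⟩,
    ⟨51, 2, 0, -1, [3, 2], 2⟩,
    ⟨52, 1, 0, 1, [2], 2⟩,
    ⟨56, 2, 1, 1, [3], 3⟩,
    ⟨69, 1, 2, 1, [], 3⟩,
    ⟨73, 0, 1, 1, [], 2⟩,
    ⟨74, 0, 2, -1, [3], 2⟩,
    ⟨78, 2, 3, 1, [], 1⟩,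
    ⟨79, 1, 3, 1, [1], 3⟩,
    ⟨83, 0, 3, 1, [1, 3], 2⟩]
  wt := ![0, 0 - (Data.E7.tab).phi 73, 0 - (Data.E7.tab).phi 73 - (Data.E7.tab).phi 69, 0 - (Data.E7.tab).phi 73 - (Data.E7.tab).phi 69 - (Data.E7.tab).phi 78]
  dg := vec [8, 11, 15, 22, 18, 13, 7]
  lw := [2, 3, 2, 1, 3, 2]
  f := 0

theorem lev0_ok : LevOK chevE7 Data.E7.tab lev0 where
  nd_lt := by decide +kernel
  sep := by decide +kernel
  dg_nd := by decide +kernel
  wf := by decide +kernel
  ents_ok := by decide +kernel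
  pos_ents := by decide +kernel
  neg_ents := by decide +kernel
  off := by decide +kernel
  up := by decide +kernel
  dn := by decide +kernel
  lw_ok := by decide +kernel
  wts := by decide +kernel
  fdet := by decide +kernel

theorem lev0_flip : ∀ k : Fin (lev0).m, wL chevE7 L0 ((chevE7).neg ((chevE7).simple ((lev0).nd k))) = (chevE7).simple ((lev0).nd k) := by
  decide +kernel

/-- The Levi subgroup of the nodes [2, 0]. -/
noncomputable def lev1 : LevData where
  m := 2
  nd := ![2, 0]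
  b := ![2, 1, 0]
  d := ![1, -1, 1]
  ents := [⟨31, 2, 0, 1, [0, 2], 2⟩,
    ⟨32, 2, 1, 1, [0], 0⟩,
    ⟨52, 1, 0, 1, [2], 2⟩,
    ⟨73, 0, 1, 1, [], 2⟩,
    ⟨93, 1, 2, 1, [], 0⟩,
    ⟨94, 0, 2, 1, [0], 2⟩]
  wt := ![0, 0 - (Data.E7.tab).phi 73, 0 - (Data.E7.tab).phi 73 - (Data.E7.tab).phi 93]
  dg := vec [24, 37, 48, 72, 57, 40, 21]
  lw := [2, 0, 2]
  f := 3

theorem lev1_ok : LevOK chevE7 Data.E7.tab lev1 where
  nd_lt := by decide +kernel
  sep := by decide +kernel
  dg_nd := by decide +kernel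
  wf := by decide +kernel
  ents_ok := by decide +kernel
  pos_ents := by decide +kernel
  neg_ents := by decide +kernel
  off := by decide +kernel
  up := by decide +kernel
  dn := by decide +kernel
  lw_ok := by decide +kernel
  wts := by decide +kernel
  fdet := by decide +kernel

theorem lev1_flip : ∀ k : Fin (lev1).m, wL chevE7 L0 ((chevE7).neg ((chevE7).simple ((lev1).nd k))) = (chevE7).simple ((lev1).nd k) := by
  decide +kernel

/-- The Levi subgroup of the nodes [0]. -/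
noncomputable def lev2 : LevData where
  m := 1
  nd := ![0]
  b := ![1, 0]
  d := ![1, -1]
  ents := [⟨32, 1, 0, 1, [0], 0⟩,
    ⟨93, 0, 1, 1, [], 0⟩]
  wt := ![0, 0 - (Data.E7.tab).phi 93]
  dg := vec [30, 45, 60, 88, 69, 48, 25]
  lw := [0]
  f := 2

theorem lev2_ok : LevOK chevE7 Data.E7.tab lev2 where
  nd_lt := by decide +kernel
  sep := by decide +kernel
  dg_nd := by decide +kernel
  wf := by decide +kernel
  ents_ok := by decide +kernel
  pos_ents := by decide +kernel
  neg_ents := by decide +kernel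
  off := by decide +kernel
  up := by decide +kernel
  dn := by decide +kernel
  lw_ok := by decide +kernel
  wts := by decide +kernel
  fdet := by decide +kernel

theorem lev2_flip : ∀ k : Fin (lev2).m, wL chevE7 L0 ((chevE7).neg ((chevE7).simple ((lev2).nd k))) = (chevE7).simple ((lev2).nd k) := by
  decide +kernel

/-- The Levi subgroup of the nodes []. -/
noncomputable def lev3 : LevData where
  m := 0
  nd := ![]
  b := ![0]
  d := ![1]
  ents := []
  wt := ![0]
  dg := vec [34, 49, 66, 96, 75, 52, 27]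
  lw := []
  f := 0

theorem lev3_ok : LevOK chevE7 Data.E7.tab lev3 where
  nd_lt := by decide +kernel
  sep := by decide +kernel
  dg_nd := by decide +kernel
  wf := by decide +kernel
  ents_ok := by decide +kernel
  pos_ents := by decide +kernel
  neg_ents := by decide +kernel
  off := by decide +kernel
  up := by decide +kernel
  dn := by decide +kernel
  lw_ok := by decide +kernel
  wts := by decide +kernel
  fdet := by decide +kernel

theorem lev3_flip : ∀ k : Fin (lev3).m, wL chevE7 L0 ((chevE7).neg ((chevE7).simple ((lev3).nd k))) = (chevE7).simple ((lev3).nd k) := by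
  decide +kernel

theorem case9 : CaseOK chevE7 lev0 L0 (vec [4, 1, 7, 2, 4, 2, 3]) 8 := by
  refine ⟨?_, ?_, fun r hr => by rw [rev_of_neg hC L0_neg (vec [4, 1, 7, 2, 4, 2, 3]) r hr]; decide⟩ <;> decide +kernel

theorem case11 : CaseOK chevE7 lev0 L0 (vec [2, 1, 7, 2, 6, 1, 3]) 10 := by
  refine ⟨?_, ?_, fun r hr => by rw [rev_of_neg hC L0_neg (vec [2, 1, 7, 2, 6, 1, 3]) r hr]; decide⟩ <;> decide +kernel

theorem case13 : CaseOK chevE7 lev1 L0 (vec [2, 8, 4, 6, 1, 6, 2]) 12 := by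
  refine ⟨?_, ?_, fun r hr => by rw [rev_of_neg hC L0_neg (vec [2, 8, 4, 6, 1, 6, 2]) r hr]; decide⟩ <;> decide +kernel

theorem case16 : CaseOK chevE7 lev2 L0 (vec [8, 5, 1, 12, 4, 6, 4]) 15 := by
  refine ⟨?_, ?_, fun r hr => by rw [rev_of_neg hC L0_neg (vec [8, 5, 1, 12, 4, 6, 4]) r hr]; decide⟩ <;> decide +kernel

theorem case17 : CaseOK chevE7 lev2 L0 (vec [9, 8, 2, 3, 3, 0, 4]) 16 := by
  refine ⟨?_, ?_, fun r hr => by rw [rev_of_neg hC L0_neg (vec [9, 8, 2, 3, 3, 0, 4]) r hr]; decide⟩ <;> decide +kernel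

theorem case19 : CaseOK chevE7 lev2 L0 (vec [14, 1, 10, 5, 13, 6, 13]) 18 := by
  refine ⟨?_, ?_, fun r hr => by rw [rev_of_neg hC L0_neg (vec [14, 1, 10, 5, 13, 6, 13]) r hr]; decide⟩ <;> decide +kernel

/-- A regular cocharacter. -/
def big : ℕ → ℤ := vec [18, 26, 35, 51, 40, 28, 15]

theorem big_ok : ∀ r < (chevE7).nroots, 0 < (Data.E7.tab).phi r → 0 < lin chevE7 big r ∧ lin chevE7 big r ≤ 18 := by decide +kernel

theorem big_rev : ∀ r < (chevE7).nroots, lin chevE7 big (wL chevE7 L0.reverse r) + lin chevE7 big r = 0 :=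
  rev_of_neg hC L0_neg big

variable {F : Type*} [Field F] [Fintype F]

theorem rank_pos : 1 ≤ (chevE7).rank := by decide +kernel

theorem exists_class (hF : 9 ≤ Fintype.card F) : ∃ c : (chevE7).group F, ∀ g : (chevE7).group F,
    ∃ u v : (chevE7).group F, g = (u * c * u⁻¹) * (v * c * v⁻¹) := by
  rcases Nat.lt_or_ge 18 (Fintype.card F - 1) with h | h
  · exact class_of_case hC node_ok tree_ok hF rank_pos lev3_ok L0_lt lev3_flip (a := big) (M := Fintype.card F - 1) rfl
      (case_of_bound hC node_ok tree_ok rfl (lev3_ok.sep) big_rev big_ok (by omega))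
  · have hq : Fintype.card F = 9 ∨ Fintype.card F = 11 ∨ Fintype.card F = 13 ∨ Fintype.card F = 16 ∨ Fintype.card F = 17 ∨ Fintype.card F = 19 := by
      have hle : Fintype.card F ≤ 19 := by omega
      have hpp : IsPrimePow (Fintype.card F) := Fintype.isPrimePow_card_of_field
      generalize Fintype.card F = q at hF hle hpp ⊢
      revert hpp
      interval_cases q <;> decide +kernel
    rcases hq with h | h | h | h | h | h
    · exact class_of_case hC node_ok tree_ok hF rank_pos lev0_ok L0_lt lev0_flip (by rw [h]) case9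
    · exact class_of_case hC node_ok tree_ok hF rank_pos lev0_ok L0_lt lev0_flip (by rw [h]) case11
    · exact class_of_case hC node_ok tree_ok hF rank_pos lev1_ok L0_lt lev1_flip (by rw [h]) case13
    · exact class_of_case hC node_ok tree_ok hF rank_pos lev2_ok L0_lt lev2_flip (by rw [h]) case16
    · exact class_of_case hC node_ok tree_ok hF rank_pos lev2_ok L0_lt lev2_flip (by rw [h]) case17
    · exact class_of_case hC node_ok tree_ok hF rank_pos lev2_ok L0_lt lev2_flip (by rw [h]) case19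

end Cfsg.Agent.ClassSquareGauss.Chev.E7
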