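import Cfsg.Agent.Lib.ClassSquareGauss.Chev.Assemble
import Cfsg.Agent.Lib.Chevalley.Types.E8

/-! Class square for type E8: degree vectors, blocks and exponents, checked by the kernel. -/

set_option autoImplicit false
set_option linter.unusedSectionVars false
set_option maxRecDepth 10000
set_option maxHeartbeats 2000000

namespace Cfsg.Agent.ClassSquareGauss.Chev.E8

open Cfsg.Lie Cfsg.Agent.Chevalley Cfsg.Agent.Chevalley.Cert Cfsg.Agent.Chevalley.Graded Cfsg.Agent.Chevalley.Table Cfsg.Agent.Chevalley.Group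

abbrev hC : Certified chevE8 Data.E8.tab := Types.E8.certified

/-- Degrees of the nodes. -/
def nv (i : ℕ) : ℕ → ℤ := vec (([
  [42, 63, 84, 125, 102, 78, 53, 27],
  [41, 60, 81, 120, 98, 75, 51, 26],
  [39, 58, 77, 115, 94, 72, 49, 25],
  [36, 53, 71, 105, 86, 66, 45, 23],
  [38, 56, 75, 111, 90, 69, 47, 24],
  [40, 59, 79, 117, 95, 72, 49, 25],
  [42, 62, 83, 123, 100, 76, 51, 26],
  [44, 65, 87, 129, 105, 80, 54, 27]
] : List (List ℤ)).getD i [])

theorem node_ok : NodeOK chevE8 Data.E8.tab nv := by unfold NodeOK Sep; decide +kernel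

/-- The tree. -/
def par (i : ℕ) : ℕ := ([2, 3, 3, 4, 5, 6, 7] : List ℕ).getD i 0

theorem tree_ok : TreeOK chevE8 par := by unfold TreeOK; decide +kernel

/-- The longest element. -/
def L0 : List ℕ := [0, 1, 2, 0, 3, 1, 2, 0, 3, 2, 4, 3, 1, 2, 0, 3, 2, 4, 3, 1, 5, 4, 3, 1, 2, 0, 3, 2, 4, 3, 1, 5, 4, 3, 2, 0, 6, 5, 4, 3, 1, 2, 0, 3, 2, 4, 3, 1, 5, 4, 3, 2, 0, 6, 5, 4, 3, 1, 2, 3, 4, 5, 6, 7, 6, 5, 4, 3, 1, 2, 0, 3, 2, 4, 3, 1, 5, 4, 3, 2, 0, 6, 5, 4, 3, 1, 2, 3, 4, 5, 6, 7, 6, 5, 4, 3, 1, 2, 0, 3, 2, 4, 3, 1, 5, 4, 3, 2, 0, 6, 5, 4, 3, 1, 2, 3, 4, 5, 6, 7]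

theorem L0_lt : ∀ i ∈ L0, i < (chevE8).rank := by decide +kernel

theorem L0_neg : ∀ r < (chevE8).nroots, wL chevE8 L0.reverse r = (chevE8).neg r :=
  neg_of_tab hC L0_lt (by decide +kernel)

/-- The Levi subgroup of the nodes [2, 3, 4, 5, 6]. -/
noncomputable def lev0 : LevData where
  m := 5
  nd := ![2, 3, 4, 5, 6]
  b := ![6, 5, 4, 3, 2, 1]
  d := ![1, -1, 1, -1, 1, -1]
  ents := [⟨100, 5, 0, 1, [6, 5, 4, 3, 2], 2⟩,
    ⟨101, 4, 0, -1, [5, 4, 3, 2], 2⟩,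
    ⟨102, 3, 0, 1, [4, 3, 2], 2⟩,
    ⟨103, 2, 0, -1, [3, 2], 2⟩,
    ⟨104, 1, 0, 1, [2], 2⟩,
    ⟨106, 5, 1, -1, [6, 5, 4, 3], 3⟩,
    ⟨107, 4, 1, 1, [5, 4, 3], 3⟩,
    ⟨108, 3, 1, -1, [4, 3], 3⟩,
    ⟨109, 2, 1, 1, [3], 3⟩,
    ⟨111, 5, 2, 1, [6, 5, 4], 4⟩,
    ⟨112, 4, 2, -1, [5, 4], 4⟩,
    ⟨113, 3, 2, 1, [4], 4⟩,
    ⟨115, 5, 3, -1, [6, 5], 5⟩,
    ⟨116, 4, 3, 1, [5], 5⟩,
    ⟨118, 5, 4, 1, [6], 6⟩,
    ⟨121, 4, 5, 1, [], 6⟩,
    ⟨123, 3, 4, 1, [], 5⟩,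
    ⟨124, 3, 5, -1, [6], 5⟩,
    ⟨126, 2, 3, 1, [], 4⟩,
    ⟨127, 2, 4, -1, [5], 4⟩,
    ⟨128, 2, 5, 1, [6, 5], 4⟩,
    ⟨130, 1, 2, 1, [], 3⟩,
    ⟨131, 1, 3, -1, [4], 3⟩,
    ⟨132, 1, 4, 1, [5, 4], 3⟩,
    ⟨133, 1, 5, -1, [6, 5, 4], 3⟩,
    ⟨135, 0, 1, 1, [], 2⟩,
    ⟨136, 0, 2, -1, [3], 2⟩,
    ⟨137, 0, 3, 1, [4, 3], 2⟩,
    ⟨138, 0, 4, -1, [5, 4, 3], 2⟩,
    ⟨139, 0, 5, 1, [6, 5, 4, 3], 2⟩]
  wt := ![0, 0 - (Data.E8.tab).phi 135, 0 - (Data.E8.tab).phi 135 - (Data.E8.tab).phi 130, 0 - (Data.E8.tab).phi 135 - (Data.E8.tab).phi 130 - (Data.E8.tab).phi 126, 0 - (Data.E8.tab).phi 135 - (Data.E8.tab).phi 130 - (Data.E8.tab).phi 126 - (Data.E8.tab).phi 123, 0 - (Data.E8.tab).phi 135 - (Data.E8.tab).phi 130 - (Data.E8.tab).phi 126 - (Data.E8.tab).phi 123 - (Data.E8.tab).phi 121]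
  dg := vec [11, 16, 21, 31, 25, 19, 13, 7]
  lw := [2, 3, 2, 4, 3, 2, 5, 4, 3, 2, 6, 5, 4, 3, 2]
  f := 0

theorem lev0_ok : LevOK chevE8 Data.E8.tab lev0 where
  nd_lt := by decide +kernel
  sep := by decide +kernel
  dg_nd := by decide +kernel
  wf := by decide +kernel
  ents_ok := by decide +kernel
  pos_ents := by decide +kernel
  neg_ents := by decide +kernel
  off := by decide +kernel
  up := by decide +kernel
  dn := by decide +kernel
  lw_ok := by decide +kernel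
  wts := by decide +kernel
  fdet := by decide +kernel

theorem lev0_flip : ∀ k : Fin (lev0).m, wL chevE8 L0 ((chevE8).neg ((chevE8).simple ((lev0).nd k))) = (chevE8).simple ((lev0).nd k) := by
  decide +kernel

/-- The Levi subgroup of the nodes [2, 3, 4, 5]. -/
noncomputable def lev1 : LevData where
  m := 4
  nd := ![2, 3, 4, 5]
  b := ![6, 5, 4, 3, 2]
  d := ![1, -1, 1, -1, 1]
  ents := [⟨101, 4, 0, -1, [5, 4, 3, 2], 2⟩,
    ⟨102, 3, 0, 1, [4, 3, 2], 2⟩,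
    ⟨103, 2, 0, -1, [3, 2], 2⟩,
    ⟨104, 1, 0, 1, [2], 2⟩,
    ⟨107, 4, 1, 1, [5, 4, 3], 3⟩,
    ⟨108, 3, 1, -1, [4, 3], 3⟩,
    ⟨109, 2, 1, 1, [3], 3⟩,
    ⟨112, 4, 2, -1, [5, 4], 4⟩,
    ⟨113, 3, 2, 1, [4], 4⟩,
    ⟨116, 4, 3, 1, [5], 5⟩,
    ⟨123, 3, 4, 1, [], 5⟩,
    ⟨126, 2, 3, 1, [], 4⟩,
    ⟨127, 2, 4, -1, [5], 4⟩,
    ⟨130, 1, 2, 1, [], 3⟩,
    ⟨131, 1, 3, -1, [4], 3⟩,
    ⟨132, 1, 4, 1, [5, 4], 3⟩,
    ⟨135, 0, 1, 1, [], 2⟩,
    ⟨136, 0, 2, -1, [3], 2⟩,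
    ⟨137, 0, 3, 1, [4, 3], 2⟩,
    ⟨138, 0, 4, -1, [5, 4, 3], 2⟩]
  wt := ![0, 0 - (Data.E8.tab).phi 135, 0 - (Data.E8.tab).phi 135 - (Data.E8.tab).phi 130, 0 - (Data.E8.tab).phi 135 - (Data.E8.tab).phi 130 - (Data.E8.tab).phi 126, 0 - (Data.E8.tab).phi 135 - (Data.E8.tab).phi 130 - (Data.E8.tab).phi 126 - (Data.E8.tab).phi 123]
  dg := vec [15, 22, 29, 43, 35, 27, 19, 10]
  lw := [2, 3, 2, 4, 3, 2, 5, 4, 3, 2]
  f := 0

theorem lev1_ok : LevOK chevE8 Data.E8.tab lev1 where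
  nd_lt := by decide +kernel
  sep := by decide +kernel
  dg_nd := by decide +kernel
  wf := by decide +kernel
  ents_ok := by decide +kernel
  pos_ents := by decide +kernel
  neg_ents := by decide +kernel
  off := by decide +kernel
  up := by decide +kernel
  dn := by decide +kernel
  lw_ok := by decide +kernel
  wts := by decide +kernel
  fdet := by decide +kernel

theorem lev1_flip : ∀ k : Fin (lev1).m, wL chevE8 L0 ((chevE8).neg ((chevE8).simple ((lev1).nd k))) = (chevE8).simple ((lev1).nd k) := by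
  decide +kernel

/-- The Levi subgroup of the nodes [2, 3, 1]. -/
noncomputable def lev2 : LevData where
  m := 3
  nd := ![2, 3, 1]
  b := ![21, 16, 15, 14]
  d := ![1, -1, 1, -1]
  ents := [⟨92, 3, 0, 1, [1, 3, 2], 2⟩,
    ⟨97, 3, 1, 1, [1, 3], 3⟩,
    ⟨98, 3, 2, 1, [1], 1⟩,
    ⟨103, 2, 0, -1, [3, 2], 2⟩,
    ⟨104, 1, 0, 1, [2], 2⟩,
    ⟨109, 2, 1, 1, [3], 3⟩,
    ⟨130, 1, 2, 1, [], 3⟩,
    ⟨135, 0, 1, 1, [], 2⟩,
    ⟨136, 0, 2, -1, [3], 2⟩,
    ⟨141, 2, 3, 1, [], 1⟩,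
    ⟨142, 1, 3, 1, [1], 3⟩,
    ⟨147, 0, 3, 1, [1, 3], 2⟩]
  wt := ![0, 0 - (Data.E8.tab).phi 135, 0 - (Data.E8.tab).phi 135 - (Data.E8.tab).phi 130, 0 - (Data.E8.tab).phi 135 - (Data.E8.tab).phi 130 - (Data.E8.tab).phi 141]
  dg := vec [24, 35, 47, 70, 58, 45, 31, 16]
  lw := [2, 3, 2, 1, 3, 2]
  f := 0

theorem lev2_ok : LevOK chevE8 Data.E8.tab lev2 where
  nd_lt := by decide +kernel
  sep := by decide +kernel
  dg_nd := by decide +kernel
  wf := by decide +kernel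
  ents_ok := by decide +kernel
  pos_ents := by decide +kernel
  neg_ents := by decide +kernel
  off := by decide +kernel
  up := by decide +kernel
  dn := by decide +kernel
  lw_ok := by decide +kernel
  wts := by decide +kernel
  fdet := by decide +kernel

theorem lev2_flip : ∀ k : Fin (lev2).m, wL chevE8 L0 ((chevE8).neg ((chevE8).simple ((lev2).nd k))) = (chevE8).simple ((lev2).nd k) := by
  decide +kernel

/-- The Levi subgroup of the nodes [2, 0]. -/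
noncomputable def lev3 : LevData where
  m := 2
  nd := ![2, 0]
  b := ![21, 16, 9]
  d := ![1, -1, 1]
  ents := [⟨76, 2, 0, 1, [0, 2], 2⟩,
    ⟨77, 2, 1, 1, [0], 0⟩,
    ⟨104, 1, 0, 1, [2], 2⟩,
    ⟨135, 0, 1, 1, [], 2⟩,
    ⟨162, 1, 2, 1, [], 0⟩,
    ⟨163, 0, 2, 1, [0], 2⟩]
  wt := ![0, 0 - (Data.E8.tab).phi 135, 0 - (Data.E8.tab).phi 135 - (Data.E8.tab).phi 162]
  dg := vec [35, 53, 70, 105, 86, 66, 45, 23]
  lw := [2, 0, 2]
  f := 3

theorem lev3_ok : LevOK chevE8 Data.E8.tab lev3 where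
  nd_lt := by decide +kernel
  sep := by decide +kernel
  dg_nd := by decide +kernel
  wf := by decide +kernel
  ents_ok := by decide +kernel
  pos_ents := by decide +kernel
  neg_ents := by decide +kernel
  off := by decide +kernel
  up := by decide +kernel
  dn := by decide +kernel
  lw_ok := by decide +kernel
  wts := by decide +kernel
  fdet := by decide +kernel

theorem lev3_flip : ∀ k : Fin (lev3).m, wL chevE8 L0 ((chevE8).neg ((chevE8).simple ((lev3).nd k))) = (chevE8).simple ((lev3).nd k) := by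
  decide +kernel

/-- The Levi subgroup of the nodes [0]. -/
noncomputable def lev4 : LevData where
  m := 1
  nd := ![0]
  b := ![14, 6]
  d := ![1, -1]
  ents := [⟨77, 1, 0, 1, [0], 0⟩,
    ⟨162, 0, 1, 1, [], 0⟩]
  wt := ![0, 0 - (Data.E8.tab).phi 162]
  dg := vec [42, 63, 84, 125, 102, 78, 53, 27]
  lw := [0]
  f := 2

theorem lev4_ok : LevOK chevE8 Data.E8.tab lev4 where
  nd_lt := by decide +kernel
  sep := by decide +kernel
  dg_nd := by decide +kernel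
  wf := by decide +kernel
  ents_ok := by decide +kernel
  pos_ents := by decide +kernel
  neg_ents := by decide +kernel
  off := by decide +kernel
  up := by decide +kernel
  dn := by decide +kernel
  lw_ok := by decide +kernel
  wts := by decide +kernel
  fdet := by decide +kernel

theorem lev4_flip : ∀ k : Fin (lev4).m, wL chevE8 L0 ((chevE8).neg ((chevE8).simple ((lev4).nd k))) = (chevE8).simple ((lev4).nd k) := by
  decide +kernel

/-- The Levi subgroup of the nodes []. -/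
noncomputable def lev5 : LevData where
  m := 0
  nd := ![]
  b := ![0]
  d := ![1]
  ents := []
  wt := ![0]
  dg := vec [46, 68, 91, 135, 110, 84, 57, 29]
  lw := []
  f := 0

theorem lev5_ok : LevOK chevE8 Data.E8.tab lev5 where
  nd_lt := by decide +kernel
  sep := by decide +kernel
  dg_nd := by decide +kernel
  wf := by decide +kernel
  ents_ok := by decide +kernel
  pos_ents := by decide +kernel
  neg_ents := by decide +kernel
  off := by decide +kernel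
  up := by decide +kernel
  dn := by decide +kernel
  lw_ok := by decide +kernel
  wts := by decide +kernel
  fdet := by decide +kernel

theorem lev5_flip : ∀ k : Fin (lev5).m, wL chevE8 L0 ((chevE8).neg ((chevE8).simple ((lev5).nd k))) = (chevE8).simple ((lev5).nd k) := by
  decide +kernel

theorem case9 : CaseOK chevE8 lev0 L0 (vec [7, 0, 5, 3, 1, 7, 5, 3]) 8 := by
  refine ⟨?_, ?_, fun r hr => by rw [rev_of_neg hC L0_neg (vec [7, 0, 5, 3, 1, 7, 5, 3]) r hr]; decide⟩ <;> decide +kernel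

theorem case11 : CaseOK chevE8 lev0 L0 (vec [4, 3, 4, 4, 1, 8, 5, 2]) 10 := by
  refine ⟨?_, ?_, fun r hr => by rw [rev_of_neg hC L0_neg (vec [4, 3, 4, 4, 1, 8, 5, 2]) r hr]; decide⟩ <;> decide +kernel

theorem case13 : CaseOK chevE8 lev1 L0 (vec [0, 6, 5, 10, 9, 8, 7, 10]) 12 := by
  refine ⟨?_, ?_, fun r hr => by rw [rev_of_neg hC L0_neg (vec [0, 6, 5, 10, 9, 8, 7, 10]) r hr]; decide⟩ <;> decide +kernel

theorem case16 : CaseOK chevE8 lev2 L0 (vec [8, 4, 8, 8, 4, 5, 10, 3]) 15 := by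
  refine ⟨?_, ?_, fun r hr => by rw [rev_of_neg hC L0_neg (vec [8, 4, 8, 8, 4, 5, 10, 3]) r hr]; decide⟩ <;> decide +kernel

theorem case17 : CaseOK chevE8 lev2 L0 (vec [12, 5, 11, 10, 4, 12, 14, 11]) 16 := by
  refine ⟨?_, ?_, fun r hr => by rw [rev_of_neg hC L0_neg (vec [12, 5, 11, 10, 4, 12, 14, 11]) r hr]; decide⟩ <;> decide +kernel

theorem case19 : CaseOK chevE8 lev2 L0 (vec [14, 17, 6, 16, 9, 11, 6, 13]) 18 := by
  refine ⟨?_, ?_, fun r hr => by rw [rev_of_neg hC L0_neg (vec [14, 17, 6, 16, 9, 11, 6, 13]) r hr]; decide⟩ <;> decide +kernel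

theorem case23 : CaseOK chevE8 lev3 L0 (vec [2, 11, 4, 6, 10, 20, 4, 19]) 22 := by
  refine ⟨?_, ?_, fun r hr => by rw [rev_of_neg hC L0_neg (vec [2, 11, 4, 6, 10, 20, 4, 19]) r hr]; decide⟩ <;> decide +kernel

theorem case25 : CaseOK chevE8 lev4 L0 (vec [23, 14, 22, 6, 12, 3, 11, 10]) 24 := by
  refine ⟨?_, ?_, fun r hr => by rw [rev_of_neg hC L0_neg (vec [23, 14, 22, 6, 12, 3, 11, 10]) r hr]; decide⟩ <;> decide +kernel

theorem case27 : CaseOK chevE8 lev4 L0 (vec [9, 22, 18, 2, 4, 11, 19, 25]) 26 := by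
  refine ⟨?_, ?_, fun r hr => by rw [rev_of_neg hC L0_neg (vec [9, 22, 18, 2, 4, 11, 19, 25]) r hr]; decide⟩ <;> decide +kernel

theorem case29 : CaseOK chevE8 lev4 L0 (vec [3, 24, 6, 14, 2, 1, 15, 25]) 28 := by
  refine ⟨?_, ?_, fun r hr => by rw [rev_of_neg hC L0_neg (vec [3, 24, 6, 14, 2, 1, 15, 25]) r hr]; decide⟩ <;> decide +kernel

/-- A regular cocharacter. -/
def big : ℕ → ℤ := vec [46, 68, 91, 135, 110, 84, 57, 29]

theorem big_ok : ∀ r < (chevE8).nroots, 0 < (Data.E8.tab).phi r → 0 < lin chevE8 big r ∧ lin chevE8 big r ≤ 29 := by decide +kernel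

theorem big_rev : ∀ r < (chevE8).nroots, lin chevE8 big (wL chevE8 L0.reverse r) + lin chevE8 big r = 0 :=
  rev_of_neg hC L0_neg big

variable {F : Type*} [Field F] [Fintype F]

theorem rank_pos : 1 ≤ (chevE8).rank := by decide +kernel

theorem exists_class (hF : 9 ≤ Fintype.card F) : ∃ c : (chevE8).group F, ∀ g : (chevE8).group F,
    ∃ u v : (chevE8).group F, g = (u * c * u⁻¹) * (v * c * v⁻¹) := by
  rcases Nat.lt_or_ge 29 (Fintype.card F - 1) with h | h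
  · exact class_of_case hC node_ok tree_ok hF rank_pos lev5_ok L0_lt lev5_flip (a := big) (M := Fintype.card F - 1) rfl
      (case_of_bound hC node_ok tree_ok rfl (lev5_ok.sep) big_rev big_ok (by omega))
  · have hq : Fintype.card F = 9 ∨ Fintype.card F = 11 ∨ Fintype.card F = 13 ∨ Fintype.card F = 16 ∨ Fintype.card F = 17 ∨ Fintype.card F = 19 ∨ Fintype.card F = 23 ∨ Fintype.card F = 25 ∨ Fintype.card F = 27 ∨ Fintype.card F = 29 := by
      have hle : Fintype.card F ≤ 30 := by omega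
      have hpp : IsPrimePow (Fintype.card F) := Fintype.isPrimePow_card_of_field
      generalize Fintype.card F = q at hF hle hpp ⊢
      revert hpp
      interval_cases q <;> decide +kernel
    rcases hq with h | h | h | h | h | h | h | h | h | h
    · exact class_of_case hC node_ok tree_ok hF rank_pos lev0_ok L0_lt lev0_flip (by rw [h]) case9
    · exact class_of_case hC node_ok tree_ok hF rank_pos lev0_ok L0_lt lev0_flip (by rw [h]) case11
    · exact class_of_case hC node_ok tree_ok hF rank_pos lev1_ok L0_lt lev1_flip (by rw [h]) case13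
    · exact class_of_case hC node_ok tree_ok hF rank_pos lev2_ok L0_lt lev2_flip (by rw [h]) case16
    · exact class_of_case hC node_ok tree_ok hF rank_pos lev2_ok L0_lt lev2_flip (by rw [h]) case17
    · exact class_of_case hC node_ok tree_ok hF rank_pos lev2_ok L0_lt lev2_flip (by rw [h]) case19
    · exact class_of_case hC node_ok tree_ok hF rank_pos lev3_ok L0_lt lev3_flip (by rw [h]) case23
    · exact class_of_case hC node_ok tree_ok hF rank_pos lev4_ok L0_lt lev4_flip (by rw [h]) case25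
    · exact class_of_case hC node_ok tree_ok hF rank_pos lev4_ok L0_lt lev4_flip (by rw [h]) case27
    · exact class_of_case hC node_ok tree_ok hF rank_pos lev4_ok L0_lt lev4_flip (by rw [h]) case29

end Cfsg.Agent.ClassSquareGauss.Chev.E8
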