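import Cfsg.Agent.Lib.ClassSquareGauss.Chev.Assemble
import Cfsg.Agent.Lib.Chevalley.Types.F4

/-! Class square for type F4: degree vectors, blocks and exponents, checked by the kernel. -/

set_option autoImplicit false
set_option linter.unusedSectionVars false
set_option maxRecDepth 10000
set_option maxHeartbeats 2000000

namespace Cfsg.Agent.ClassSquareGauss.Chev.F4

open Cfsg.Lie Cfsg.Agent.Chevalley Cfsg.Agent.Chevalley.Cert Cfsg.Agent.Chevalley.Graded Cfsg.Agent.Chevalley.Table Cfsg.Agent.Chevalley.Group

abbrev hC : Certified chevF4 Data.F4.tab := Types.F4.certified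

/-- Degrees of the nodes. -/
def nv (i : ℕ) : ℕ → ℤ := vec (([
  [6, 12, 17, 9],
  [5, 9, 13, 7],
  [6, 11, 15, 8],
  [7, 13, 18, 9]
] : List (List ℤ)).getD i [])

theorem node_ok : NodeOK chevF4 Data.F4.tab nv := by unfold NodeOK Sep; decide +kernel

/-- The tree. -/
def par (i : ℕ) : ℕ := ([1, 2, 3] : List ℕ).getD i 0

theorem tree_ok : TreeOK chevF4 par := by unfold TreeOK; decide +kernel

/-- The longest element. -/
def L0 : List ℕ := [0, 1, 0, 2, 1, 0, 2, 1, 2, 3, 2, 1, 0, 2, 1, 2, 3, 2, 1, 0, 2, 1, 2, 3]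

theorem L0_lt : ∀ i ∈ L0, i < (chevF4).rank := by decide +kernel

theorem L0_neg : ∀ r < (chevF4).nroots, wL chevF4 L0.reverse r = (chevF4).neg r :=
  neg_of_tab hC L0_lt (by decide +kernel)

/-- The Levi subgroup of the nodes [0]. -/
noncomputable def lev0 : LevData where
  m := 1
  nd := ![0]
  b := ![7, 3]
  d := ![1, -1]
  ents := [⟨14, 1, 0, 1, [0], 0⟩,
    ⟨33, 0, 1, 1, [], 0⟩]
  wt := ![0, 0 - (Data.F4.tab).phi 33]
  dg := vec [6, 12, 17, 9]
  lw := [0]
  f := 1

theorem lev0_ok : LevOK chevF4 Data.F4.tab lev0 where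
  nd_lt := by decide +kernel
  sep := by decide +kernel
  dg_nd := by decide +kernel
  wf := by decide +kernel
  ents_ok := by decide +kernel
  pos_ents := by decide +kernel
  neg_ents := by decide +kernel
  off := by decide +kernel
  up := by decide +kernel
  dn := by decide +kernel
  lw_ok := by decide +kernel
  wts := by decide +kernel
  fdet := by decide +kernel

theorem lev0_flip : ∀ k : Fin (lev0).m, wL chevF4 L0 ((chevF4).neg ((chevF4).simple ((lev0).nd k))) = (chevF4).simple ((lev0).nd k) := by
  decide +kernel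

/-- The Levi subgroup of the nodes []. -/
noncomputable def lev1 : LevData where
  m := 0
  nd := ![]
  b := ![0]
  d := ![1]
  ents := []
  wt := ![0]
  dg := vec [8, 15, 21, 11]
  lw := []
  f := 0

theorem lev1_ok : LevOK chevF4 Data.F4.tab lev1 where
  nd_lt := by decide +kernel
  sep := by decide +kernel
  dg_nd := by decide +kernel
  wf := by decide +kernel
  ents_ok := by decide +kernel
  pos_ents := by decide +kernel
  neg_ents := by decide +kernel
  off := by decide +kernel
  up := by decide +kernel
  dn := by decide +kernel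
  lw_ok := by decide +kernel
  wts := by decide +kernel
  fdet := by decide +kernel

theorem lev1_flip : ∀ k : Fin (lev1).m, wL chevF4 L0 ((chevF4).neg ((chevF4).simple ((lev1).nd k))) = (chevF4).simple ((lev1).nd k) := by
  decide +kernel

theorem case9 : CaseOK chevF4 lev0 L0 (vec [5, 2, 3, 4]) 8 := by
  refine ⟨?_, ?_, fun r hr => by rw [rev_of_neg hC L0_neg (vec [5, 2, 3, 4]) r hr]; decide⟩ <;> decide +kernel

theorem case11 : CaseOK chevF4 lev0 L0 (vec [4, 8, 9, 6]) 10 := by
  refine ⟨?_, ?_, fun r hr => by rw [rev_of_neg hC L0_neg (vec [4, 8, 9, 6]) r hr]; decide⟩ <;> decide +kernel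

/-- A regular cocharacter. -/
def big : ℕ → ℤ := vec [8, 15, 21, 11]

theorem big_ok : ∀ r < (chevF4).nroots, 0 < (Data.F4.tab).phi r → 0 < lin chevF4 big r ∧ lin chevF4 big r ≤ 11 := by decide +kernel

theorem big_rev : ∀ r < (chevF4).nroots, lin chevF4 big (wL chevF4 L0.reverse r) + lin chevF4 big r = 0 :=
  rev_of_neg hC L0_neg big

variable {F : Type*} [Field F] [Fintype F]

theorem rank_pos : 1 ≤ (chevF4).rank := by decide +kernel

theorem exists_class (hF : 9 ≤ Fintype.card F) : ∃ c : (chevF4).group F, ∀ g : (chevF4).group F,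
    ∃ u v : (chevF4).group F, g = (u * c * u⁻¹) * (v * c * v⁻¹) := by
  rcases Nat.lt_or_ge 11 (Fintype.card F - 1) with h | h
  · exact class_of_case hC node_ok tree_ok hF rank_pos lev1_ok L0_lt lev1_flip (a := big) (M := Fintype.card F - 1) rfl
      (case_of_bound hC node_ok tree_ok rfl (lev1_ok.sep) big_rev big_ok (by omega))
  · have hq : Fintype.card F = 9 ∨ Fintype.card F = 11 := by
      have hle : Fintype.card F ≤ 12 := by omega
      have hpp : IsPrimePow (Fintype.card F) := Fintype.isPrimePow_card_of_field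
      generalize Fintype.card F = q at hF hle hpp ⊢
      revert hpp
      interval_cases q <;> decide +kernel
    rcases hq with h | h
    · exact class_of_case hC node_ok tree_ok hF rank_pos lev0_ok L0_lt lev0_flip (by rw [h]) case9
    · exact class_of_case hC node_ok tree_ok hF rank_pos lev0_ok L0_lt lev0_flip (by rw [h]) case11

end Cfsg.Agent.ClassSquareGauss.Chev.F4
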